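import Groth.Agent.Lib.CurveMult.P1Split

/-!
# First cohomology of split bundles on the line
-/

universe u

set_option autoImplicit false
set_option linter.all false
set_option backward.isDefEq.respectTransparency false
set_option maxHeartbeats 1000000

open CategoryTheory CategoryTheory.Limits AlgebraicGeometry TopologicalSpace Opposite

noncomputable section

namespace GrothLib.PlaneBlow28

open GrothLib.CurveMult.P1Split (O1 inv_O1 isCoh_sum sigmaSucc finrank_diff finrank_H0_O1)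

variable (k : Type u) [Field k]

attribute [local instance] GrothLib.CurveMult.P1Split.overP1

local notation "PP" => CohB1.ProjSpace 1 k

theorem hhMap_add {M N : (PP).Modules} (f g : M ⟶ N) {n : ℕ} (x : Coh.HH PP M n) :
    Cohom.hhMap k (f + g) n x = Cohom.hhMap k f n x + Cohom.hhMap k g n x := by
  rw [Cohom.hhMap_apply, Cohom.hhMap_apply, Cohom.hhMap_apply,
    show (QCoh.toAbFun PP).map (f + g) = (QCoh.toAbFun PP).map f + (QCoh.toAbFun PP).map g from Functor.map_add _,
    Cohom.H_map_eq_comp, Abelian.Ext.mk₀_add, Abelian.Ext.comp_add]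
  rfl

theorem hhMap_zero {M N : (PP).Modules} {n : ℕ} (x : Coh.HH PP M n) : Cohom.hhMap k (0 : M ⟶ N) n x = 0 :=
  add_eq_left.1 (by rw [← hhMap_add, add_zero] : Cohom.hhMap k (0 : M ⟶ N) n x + Cohom.hhMap k (0 : M ⟶ N) n x =
    Cohom.hhMap k (0 : M ⟶ N) n x)


theorem finrank_biprod {A B : (PP).Modules} (hA : Coh.IsCoh A) (hB : Coh.IsCoh B) (n : ℕ) :
    Module.finrank k (Coh.HH PP (A ⊞ B) n) =
      Module.finrank k (Coh.HH PP A n) + Module.finrank k (Coh.HH PP B n) := by
  haveI := Euler.finiteDimensional_HH k hA n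
  haveI := Euler.finiteDimensional_HH k hB n
  rw [← Module.finrank_prod]
  refine (LinearEquiv.ofBijective ((Cohom.hhMap k (biprod.fst : A ⊞ B ⟶ A) n).prod
    (Cohom.hhMap k (biprod.snd : A ⊞ B ⟶ B) n)) ⟨(injective_iff_map_eq_zero _).2 fun x hx => ?_, fun y =>
    ⟨Cohom.hhMap k (biprod.inl : A ⟶ A ⊞ B) n y.1 + Cohom.hhMap k (biprod.inr : B ⟶ A ⊞ B) n y.2, ?_⟩⟩).finrank_eq
  · obtain ⟨h1, h2⟩ := Prod.ext_iff.1 hx
    change Cohom.hhMap k (biprod.fst : A ⊞ B ⟶ A) n x = 0 at h1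
    change Cohom.hhMap k (biprod.snd : A ⊞ B ⟶ B) n x = 0 at h2
    rw [← Euler.hhMap_id (A := k) (A ⊞ B) n x, ← biprod.total, hhMap_add, Euler.hhMap_comp,
      Euler.hhMap_comp, h1, h2, map_zero, map_zero, add_zero]
  · refine Prod.ext ?_ ?_
    · show Cohom.hhMap k (biprod.fst : A ⊞ B ⟶ A) n _ = _
      rw [map_add, ← Euler.hhMap_comp, ← Euler.hhMap_comp, biprod.inl_fst, biprod.inr_fst, Euler.hhMap_id,
        hhMap_zero, add_zero]
    · show Cohom.hhMap k (biprod.snd : A ⊞ B ⟶ B) n _ = _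
      rw [map_add, ← Euler.hhMap_comp, ← Euler.hhMap_comp, biprod.inl_snd, biprod.inr_snd, Euler.hhMap_id,
        hhMap_zero, zero_add]

theorem finrank_H1_O1 (d : ℤ) : Module.finrank k (Coh.HH PP (O1 k d) 1) = (-d - 1).toNat := by
  have h1 := finrank_diff k d
  have h0 := finrank_H0_O1 k d
  omega

theorem finrank_H1_sum : ∀ (r : ℕ) (d : Fin r → ℤ),
    Module.finrank k (Coh.HH PP (∐ fun i : Fin r => O1 k (d i)) 1) = ∑ i, (-d i - 1).toNat := by
  intro r
  induction r with
  | zero =>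
    intro d
    haveI : Subsingleton (Coh.HH PP (∐ fun i : Fin 0 => O1 k (d i)) 1) := by
      refine ⟨fun a b => ?_⟩
      have hz : 𝟙 (∐ fun i : Fin 0 => O1 k (d i)) = 0 := Sigma.hom_ext _ _ fun i => i.elim0
      rw [← Euler.hhMap_id (A := k) (∐ fun i : Fin 0 => O1 k (d i)) 1 a, hz, hhMap_zero,
        ← Euler.hhMap_id (A := k) (∐ fun i : Fin 0 => O1 k (d i)) 1 b, hz, hhMap_zero]
    rw [Module.finrank_zero_of_subsingleton, Fin.sum_univ_zero]
  | succ r ih =>
    intro d
    rw [(Euler.hhEquiv (A := k) (sigmaSucc fun i : Fin (r + 1) => O1 k (d i)) 1).finrank_eq,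
      finrank_biprod k (Euler.isCoh_of_isInvertible (inv_O1 k _)) (isCoh_sum k r fun i => d i.succ) 1,
      ih fun i => d i.succ, finrank_H1_O1, Fin.sum_univ_succ]

end GrothLib.PlaneBlow28
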