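import Groth.Agent.Lib.HypSq28.Seq

/-!
# A further piece of the restriction sequence
-/

set_option autoImplicit false
set_option backward.isDefEq.respectTransparency false
set_option linter.all false
set_option maxHeartbeats 4000000

universe u

open CategoryTheory CategoryTheory.Limits AlgebraicGeometry TopologicalSpace

noncomputable section

namespace GrothLib.PlaneBlow28

open GrothLib.Cube (Pic clsMod pull)
open GrothLib.HodgeIndex (rep isInv_rep cls_rep chi euler_eq_chi)

variable (k : Type u) [Field k] {X Y : Scheme.{u}} [X.Over (Spec (CommRingCat.of k))]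
  [IsProper (X ↘ Spec (CommRingCat.of k))] [Y.Over (Spec (CommRingCat.of k))]
  [IsProper (Y ↘ Spec (CommRingCat.of k))]
  (i : Y ⟶ X) [IsClosedImmersion i] (hi : i ≫ X ↘ Spec (CommRingCat.of k) = Y ↘ Spec (CommRingCat.of k))
  (hI : PicF.IsInvertible (ClSub.idealMod i.ker))

include hi in
/-- `h^1(z|_Y) ≤ h^1(z) + h^2(z(-Y))`. -/
theorem seq_le' (z : Pic X) :
    Module.finrank k (Coh.HH Y (rep (pull i z)) 1) ≤
      Module.finrank k (Coh.HH X (rep z) 1) + Module.finrank k (Coh.HH X (rep (z * clsMod hI)) 2) := by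
  haveI := Euler.isNoetherian_of_proper (X := X) k
  haveI := Euler.isNoetherian_of_proper (X := Y) k
  let L := rep z
  have hL : PicF.IsInvertible L := isInv_rep z
  have hlf := Euler.isFinLocFree_of_isInvertible hL
  have hLY : PicF.IsInvertible ((Scheme.Modules.pullback i).obj L) := Ample.isInvertible_pullback i hL
  haveI : ((Scheme.Modules.pullback i).obj L).IsQuasicoherent :=
    Euler.isQuasicoherent_of_isFinLocFree (Euler.isFinLocFree_of_isInvertible hLY)
  let I := i.ker
  haveI := Euler.epi_toSubscheme I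
  let S := ShortComplex.mk (ClSub.idealModι I) (ClSub.toSubscheme I) (kernel.condition _)
  haveI : Mono S.f := inferInstanceAs (Mono (kernel.ι (ClSub.toSubscheme I)))
  haveI : Epi S.g := Euler.epi_toSubscheme I
  have hS : S.ShortExact := { exact := ShortComplex.exact_of_f_is_kernel _ (kernelIsKernel _) }
  let T := S.map (Euler.tF L)
  have hT : T.ShortExact := OX.tensor_map_shortExact (OX.flat_of_isFinLocFree hlf) hS
  have hc₁ : Coh.IsCoh T.X₁ := Euler.isCoh_tF (Euler.isCoh_of_isInvertible hI) hlf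
  have hc₂ : Coh.IsCoh T.X₂ := Euler.isCoh_tF (Kleiman.isCoh_O (X := X) k) hlf
  have hc₃ : Coh.IsCoh T.X₃ := Euler.isCoh_tF (QCoh.pushUnit_isCoh I.subschemeι) hlf
  -- the terms
  have hW₁ : PicF.IsInvertible (CohB1.tensorMod (ClSub.idealMod I) L) := Ample.isInvertible_tensorMod hI hL
  have hc : clsMod hW₁ = z * clsMod hI := by
    rw [Cube.clsMod_tensorMod hI hL, cls_rep, mul_comm]
  obtain ⟨w₁⟩ := (Cube.clsMod_eq_iff hW₁ (isInv_rep _)).1 (hc.trans (cls_rep _).symm)
  let e₁ : T.X₁ ≅ rep (z * clsMod hI) := w₁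
  let e₂ : T.X₂ ≅ rep z := OX.tensorUnitLeftIso L
  haveI := ProjFormula.isIso_projHom i hlf (Coh.structureModule Y)
  let e₃ : T.X₃ ≅ (Scheme.Modules.pushforward i).obj ((Scheme.Modules.pullback i).obj L) :=
    ((OX.tensorBraiding (X := X)).app L).app _ ≪≫
    ((DCoh.tensorBi (X := X)).obj L).mapIso (ArSurf29.pushUnitIsoQuot i).symm ≪≫
      asIso (ProjFormula.projHom i L (Coh.structureModule Y)) ≪≫
      (Scheme.Modules.pushforward i).mapIso (Euler.tFUnitIso _)
  have hcY : clsMod hLY = pull i z := by rw [Cube.clsMod_pullback i hL, cls_rep]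
  obtain ⟨w₃⟩ := (Cube.clsMod_eq_iff hLY (isInv_rep _)).1 (hcY.trans (cls_rep _).symm)
  have f₁ : ∀ n, Module.finrank k (Coh.HH X T.X₁ n) = Module.finrank k (Coh.HH X (rep (z * clsMod hI)) n) := fun n =>
    (Euler.hhEquiv (A := k) e₁ n).finrank_eq
  have f₂ : ∀ n, Module.finrank k (Coh.HH X T.X₂ n) = Module.finrank k (Coh.HH X (rep z) n) := fun n =>
    (Euler.hhEquiv (A := k) e₂ n).finrank_eq
  have f₃ : ∀ n, Module.finrank k (Coh.HH X T.X₃ n) = Module.finrank k (Coh.HH Y (rep (pull i z)) n) := fun n => by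
    obtain ⟨e⟩ := Snapper.nonempty_HH_linearEquiv_pushforward (A := k) i hi ((Scheme.Modules.pullback i).obj L) n
    rw [(Euler.hhEquiv (A := k) e₃ n).finrank_eq, ← e.finrank_eq, (Euler.hhEquiv (A := k) w₃ n).finrank_eq]
  haveI hf₁ := fun n => Euler.finiteDimensional_HH k hc₁ n
  haveI hf₂ := fun n => Euler.finiteDimensional_HH k hc₂ n
  haveI hf₃ := fun n => Euler.finiteDimensional_HH k hc₃ n
  rw [← f₁, ← f₂, ← f₃]
  exact HypSq28.finrank_le_add_of_exact (Cohom.exact₃ (A := k) hT 1)

end GrothLib.PlaneBlow28
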