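import Groth.Agent.Lib.BlowPt28.SeqLe
import Groth.Agent.Lib.PlaneBlow28.SeqLe
import Groth.Agent.Lib.HodgeIndex.Deg
import Groth.Agent.Lib.HodgeIndex.Pullback
import Groth.Agent.Lib.SurfRR28.Canonical
import Groth.Agent.Lib.SurfRR28.Effective
import Groth.Agent.Lib.SurfRR28.Proper
import Groth.Agent.Lib.ArSurf29.NoSection

/-!
# Curves and line bundles on a smooth proper surface: the restriction sequence
-/

universe u

set_option autoImplicit false
set_option linter.all false
set_option backward.isDefEq.respectTransparency false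
set_option maxHeartbeats 1000000

open CategoryTheory CategoryTheory.Limits AlgebraicGeometry TopologicalSpace

noncomputable section

namespace GrothLib.PlaneBlow28

open GrothLib.Cube (Pic clsMod pull)
open GrothLib.HodgeIndex (rep isInv_rep cls_rep chi euler_eq_chi chi_one isect cCl)
open GrothLib.Snapper (IsTop)

variable (k : Type u) [Field k]

/-- The cohomology dimension of a class. -/
def h {X : Scheme.{u}} [X.Over (Spec (CommRingCat.of k))] (i : ℕ) (z : Pic X) : ℕ :=
  Module.finrank k (Coh.HH X (rep z) i)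

variable {X : Scheme.{u}} [X.Over (Spec (CommRingCat.of k))] [IsProper (X ↘ Spec (CommRingCat.of k))]

theorem finrank_eq_h {L : X.Modules} (hL : PicF.IsInvertible L) (i : ℕ) :
    Module.finrank k (Coh.HH X L i) = h k i (clsMod hL) := by
  obtain ⟨e⟩ := (Cube.clsMod_eq_iff hL (isInv_rep _)).1 (cls_rep (clsMod hL)).symm
  exact (Euler.hhEquiv (A := k) e i).finrank_eq

theorem subsingleton_iff {L : X.Modules} (hL : PicF.IsInvertible L) (i : ℕ) :
    Subsingleton (Coh.HH X L i) ↔ h k i (clsMod hL) = 0 := by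
  haveI := Euler.isNoetherian_of_proper (X := X) k
  haveI := Euler.finiteDimensional_HH k (Euler.isCoh_of_isInvertible hL) i
  rw [← finrank_eq_h k hL i]
  exact ⟨fun _ => Module.finrank_zero_of_subsingleton, fun e => Module.finrank_zero_iff.1 e⟩

variable [IsIntegral X] (hdim : topologicalKrullDim X = ((2 : ℕ) : WithBot ℕ∞))

include hdim in
theorem chi_eq_h (z : Pic X) : chi k z = (h k 0 z : ℤ) - h k 1 z + h k 2 z := by
  haveI := Euler.isNoetherian_of_proper (X := X) k
  haveI : NoetherianSpace X.toTopCat := (inferInstance : NoetherianSpace X)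
  rw [chi, Euler.euler_eq_sum k (rep z) (N := 3) fun i hi =>
    GVanish.subsingleton_H_of_krullDim_le (X := X.toTopCat) 2 hdim.le _ i (by omega)]
  simp [Finset.sum_range_succ, h]
  ring

include hdim in
/-- A class of non-negative degree on all curves pairs non-negatively with effective classes. -/
theorem h0_eq_zero_of_nef {x z : Pic X} (hx : ∀ y, IsTop 1 y → 0 ≤ HodgeIndex.deg k y x)
    (hneg : isect k x z < 0) : h k 0 z = 0 := by
  by_contra hne
  haveI : Nontrivial (Coh.HH X (rep z) 0) := Module.nontrivial_of_finrank_pos (R := k) (Nat.pos_of_ne_zero hne)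
  have hp := SurfRR28.pLe_one_of_nontrivial (isInv_rep z) inferInstance
  rw [cls_rep] at hp
  obtain ⟨s, hs, T, m, hT, hd⟩ := HodgeIndex.eff_decomp_pic k hdim hp
  have h0 : (0 : ℚ) ≤ (isect k x z : ℚ) := by
    rw [hd x]
    exact Finset.sum_nonneg fun y hy => mul_nonneg (Nat.cast_nonneg _) (hx y (hT y hy).1)
  have : (0 : ℤ) ≤ isect k x z := by exact_mod_cast h0
  omega

variable [Smooth (X ↘ Spec (CommRingCat.of k))] {C : X.IdealSheafData} (hCi : IsIntegral C.subscheme)
  (hCd : topologicalKrullDim (C.support : Set X) = 1)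

include hdim hCi hCd in
theorem cls_ideal : clsMod (HodgeIndex.inv_curve k hdim hCi hCd) = (cCl C)⁻¹ := by
  rw [cCl, dif_pos (HodgeIndex.inv_curve k hdim hCi hCd), inv_inv]

include hdim hCi hCd in
theorem intNum_self : FGA.intNum k X 2 ![ClSub.idealMod C, ClSub.idealMod C] (Coh.structureModule X) =
    isect k (cCl C) (cCl C) := by
  have hI := HodgeIndex.inv_curve k hdim hCi hCd
  rw [SurfRR28.intNum_eq_isect' k hdim.le hI hI, show clsMod hI = (cCl C)⁻¹ from cls_ideal k hdim hCi hCd,
    HodgeIndex.isect_inv_left k hdim.le, HodgeIndex.isect_inv_right k hdim.le, neg_neg]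

include hdim hCi hCd in
theorem deg_curve {L : X.Modules} (hL : PicF.IsInvertible L) :
    Curv2.euler k X (CohB1.tensorMod (ClSub.quotMod C) L) - Curv2.euler k X (ClSub.quotMod C) =
      isect k (clsMod hL) (cCl C) :=
  HodgeIndex.euler_sub_eq_isect k hdim hCi hCd hL

include hdim hCi hCd in
/-- The restriction sequence of an integral curve, in dimensions, with `z(-C) = z - C`. -/
theorem curve_seq (z : Pic X) :
    letI : C.subscheme.Over (Spec (CommRingCat.of k)) := ⟨C.subschemeι ≫ X ↘ Spec (CommRingCat.of k)⟩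
    (h k 0 (z * (cCl C)⁻¹) ≤ h k 0 z) ∧
    (h k 0 z ≤ h k 0 (z * (cCl C)⁻¹) + h k 0 (pull C.subschemeι z)) ∧
    (h k 0 (pull C.subschemeι z) = 0 → h k 1 (z * (cCl C)⁻¹) ≤ h k 1 z) ∧
    (h k 2 z ≤ h k 2 (z * (cCl C)⁻¹)) ∧
    chi k z = chi k (z * (cCl C)⁻¹) + chi k (pull C.subschemeι z) ∧
    chi k (pull C.subschemeι z) = chi k (1 : Pic C.subscheme) + isect k z (cCl C) ∧
    chi k (pull C.subschemeι z) = (h k 0 (pull C.subschemeι z) : ℤ) - h k 1 (pull C.subschemeι z) ∧
    (isect k z (cCl C) < 0 → h k 0 (pull C.subschemeι z) = 0) ∧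
    (h k 1 (pull C.subschemeι z) ≤ h k 1 z + h k 2 (z * (cCl C)⁻¹)) ∧
    chi k (1 : Pic C.subscheme) = Curv2.euler k X (ClSub.quotMod C) := by
  letI : C.subscheme.Over (Spec (CommRingCat.of k)) := ⟨C.subschemeι ≫ X ↘ Spec (CommRingCat.of k)⟩
  haveI : IsProper (C.subscheme ↘ Spec (CommRingCat.of k)) :=
    inferInstanceAs (IsProper (C.subschemeι ≫ X ↘ Spec (CommRingCat.of k)))
  haveI := hCi
  haveI := Euler.isNoetherian_of_proper (X := X) k
  haveI := Euler.isNoetherian_of_proper (X := C.subscheme) k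
  have hY : topologicalKrullDim C.subscheme ≤ ((1 : ℕ) : WithBot ℕ∞) := (SurfRR28.dim_subscheme_eq hCd).le
  have hI : PicF.IsInvertible (ClSub.idealMod C.subschemeι.ker) := by
    rw [C.ker_subschemeι]; exact HodgeIndex.inv_curve k hdim hCi hCd
  have hc : clsMod hI = (cCl C)⁻¹ := by
    rw [← cls_ideal k hdim hCi hCd, Cube.clsMod_eq_iff]
    exact ⟨eqToIso (by rw [C.ker_subschemeι])⟩
  obtain ⟨s1, s2, -, -, s5, -, s7⟩ := HypSq28.seq k C.subschemeι rfl hI hY z
  obtain ⟨-, -, -, -, -, -, t7⟩ := HypSq28.seq k C.subschemeι rfl hI hY 1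
  rw [map_one, one_mul] at t7
  rw [hc] at s1 s2 s5 s7 t7
  have hdeg : chi k (pull C.subschemeι z) = chi k (1 : Pic C.subscheme) + isect k z (cCl C) := by
    have hn := HodgeIndex.isect_inv_right k hdim.le z (cCl C)
    rw [isect] at hn
    linarith
  refine ⟨s2, s1 (n := 0) rfl rfl rfl, fun h0 => ?_, s5, s7, hdeg, ?_, fun hneg => ?_, ?_, ?_⟩
  · have := BlowPt28.seq_le k C.subschemeι rfl hI z
    rw [hc] at this
    simp only [h] at h0 ⊢
    omega
  · haveI : (rep (pull C.subschemeι z)).IsQuasicoherent :=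
      Euler.isQuasicoherent_of_isFinLocFree (Euler.isFinLocFree_of_isInvertible (isInv_rep _))
    rw [chi, Euler.euler_eq_sum k _ (N := 2) fun i hi =>
      Euler.subsingleton_HH_of_dim_le_one (A := k) hY _ i hi]
    simp [Finset.sum_range_succ, h]
    ring
  · have hL := isInv_rep (pull C.subschemeι z)
    have hd : Curv2.deg k C.subscheme (rep (pull C.subschemeι z)) 1 = isect k z (cCl C) := by
      rw [Curv2.deg, euler_eq_chi k hL, cls_rep, ← chi_one k, Nat.cast_one, one_mul, hdeg]
      ring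
    haveI := ArSurf29.subsingleton_of_deg_neg k hY hL (hd ▸ hneg)
    haveI : Subsingleton (Coh.HH C.subscheme (rep (pull C.subschemeι z)) 0) :=
      (ProjCoh.H0top (rep (pull C.subschemeι z))).toEquiv.subsingleton
    exact Module.finrank_zero_of_subsingleton
  · have := seq_le' k C.subschemeι rfl hI z
    rwa [hc] at this
  · rw [chi_one, Snapper.euler_quotMod k C]

include hdim hCi hCd in
/-- Subtracting a curve of negative degree keeps the sections. -/
theorem h0_sub_curve (z : Pic X) (t : ℕ) (ht : ∀ j : ℕ, j < t → isect k (z * (cCl C)⁻¹ ^ j) (cCl C) < 0) :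
    h k 0 (z * (cCl C)⁻¹ ^ t) = h k 0 z := by
  induction t with
  | zero => rw [pow_zero, mul_one]
  | succ t ih =>
    rw [← ih fun j hj => ht j (hj.trans (Nat.lt_succ_self t)), pow_succ, ← mul_assoc]
    obtain ⟨a, b, -, -, -, -, -, c, -, -⟩ := curve_seq k hdim hCi hCd (z * (cCl C)⁻¹ ^ t)
    rw [c (ht t (Nat.lt_succ_self t)), add_zero] at b
    exact le_antisymm a b

include hdim hCi hCd in
theorem isect_sub_curve (z x : Pic X) (j : ℕ) :
    isect k (z * (cCl C)⁻¹ ^ j) x = isect k z x - (j : ℤ) * isect k (cCl C) x := by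
  rw [HodgeIndex.isect_mul_left k hdim.le, HodgeIndex.isect_pow_left k hdim.le, HodgeIndex.isect_inv_left k hdim.le]
  ring

end GrothLib.PlaneBlow28
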