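import Groth.Agent.Lib.PlaneBlow28.Fibred
import Groth.Agent.Lib.PlaneBlow28.P1H1
import Groth.Agent.Lib.PlaneBlow28.Basic
import Groth.Agent.Lib.HypSq28.Divisors
import Groth.Agent.Lib.TFCurv11.NormPush
import Groth.Agent.Lib.FormalExist7.PushTwist
import Groth.Agent.Lib.Contract29.ContractInter
import Groth.Agent.Lib.BlowPt28.Plane

/-!
# Vanishing from surjectivity of one restriction to a fibre
-/

universe u

set_option autoImplicit false
set_option linter.all false
set_option backward.isDefEq.respectTransparency false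
set_option maxHeartbeats 2000000

open CategoryTheory CategoryTheory.Limits AlgebraicGeometry TopologicalSpace

noncomputable section

namespace GrothLib.PlaneBlow28

open GrothLib.Cube (Pic clsMod pull)
open GrothLib.HodgeIndex (rep isInv_rep cls_rep euler_eq_chi)
open GrothLib.CurveMult.P1Split (O1 inv_O1 dim_P1 mulIso)
open GrothLib.BlowPt28 (tw)

/-- On an irreducible space of dimension one a non-closed point is dense. -/
theorem dense_of_not_isClosed {Y : Type*} [TopologicalSpace Y] [IrreducibleSpace Y]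
    (hY : topologicalKrullDim Y ≤ ((1 : ℕ) : WithBot ℕ∞)) (hjac : ∀ S : Set Y, IsClosed S → S.Nonempty →
      ∃ w ∈ S, IsClosed ({w} : Set Y)) {z : Y} (hz : ¬ IsClosed ({z} : Set Y)) : closure {z} = Set.univ := by
  by_contra hne
  let Z : IrreducibleCloseds Y := ⟨closure {z}, isIrreducible_singleton.closure, isClosed_closure⟩
  let top : IrreducibleCloseds Y := ⟨Set.univ, IrreducibleSpace.isIrreducible_univ Y, isClosed_univ⟩
  have h1 : Z < top := lt_of_le_of_ne (fun _ _ => trivial) fun e => hne (by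
    show (Z : Set Y) = Set.univ
    rw [e]
    rfl)
  obtain ⟨w, hw, hwc⟩ := hjac _ isClosed_closure (Set.singleton_nonempty z).closure
  let B : IrreducibleCloseds Y := ⟨{w}, isIrreducible_singleton, hwc⟩
  have h0 : B < Z := lt_of_le_of_ne (Set.singleton_subset_iff.2 hw) fun e => hz (by
    have h : z ∈ (B : Set Y) := by rw [e]; exact subset_closure rfl
    rw [show z = w from h]
    exact hwc)
  have h2 : ((2 : ℕ) : WithBot ℕ∞) ≤ topologicalKrullDim Y :=
    Order.le_krullDim_iff.2 ⟨((RelSeries.singleton _ top).cons Z h1).cons B (by simpa using h0), by simp⟩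
  have := h2.trans hY
  norm_cast at this

variable (k : Type u) [Field k] {X : Scheme.{u}} [X.Over (Spec (CommRingCat.of k))]
  [IsProper (X ↘ (Spec (CommRingCat.of k)))]

/-- Exactness: equality of dimensions makes the map on first cohomology injective. -/
theorem h1_le_of_h0_eq {S : ShortComplex X.Modules} (hS : S.ShortExact) (h₁ : Coh.IsCoh S.X₁)
    (h₂ : Coh.IsCoh S.X₂) (h₃ : Coh.IsCoh S.X₃)
    (h : Module.finrank k (Coh.HH X S.X₂ 0) = Module.finrank k (Coh.HH X S.X₁ 0) + Module.finrank k (Coh.HH X S.X₃ 0)) :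
    Module.finrank k (Coh.HH X S.X₁ 1) ≤ Module.finrank k (Coh.HH X S.X₂ 1) := by
  haveI := Euler.isNoetherian_of_proper (X := X) k
  haveI := Euler.finiteDimensional_HH k h₁ 0
  haveI := Euler.finiteDimensional_HH k h₂ 0
  haveI := Euler.finiteDimensional_HH k h₃ 0
  haveI := Euler.finiteDimensional_HH k h₁ 1
  haveI := Euler.finiteDimensional_HH k h₂ 1
  have hf0 : Function.Injective (Cohom.hhMap k S.f 0) := Euler.hhMap_zero_injective (A := k) hS
  have h1 := (Cohom.hhMap k S.g 0).finrank_range_add_finrank_ker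
  rw [(Cohom.exact₂ (A := k) hS 0).linearMap_ker_eq, LinearMap.finrank_range_of_inj hf0] at h1
  have hsurj : Function.Surjective (Cohom.hhMap k S.g 0) :=
    LinearMap.range_eq_top.1 (Submodule.eq_top_of_finrank_eq (by omega))
  refine LinearMap.finrank_le_finrank_of_injective (f := Cohom.hhMap k S.f 1)
    ((injective_iff_map_eq_zero _).2 fun x hx => ?_)
  obtain ⟨w, rfl⟩ := (Cohom.exact₁ (A := k) hS 0 x).1 hx
  obtain ⟨v, rfl⟩ := hsurj w
  exact (Cohom.exact₃ (A := k) hS 0 _).2 ⟨v, rfl⟩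

variable [IsAlgClosed k] [IsIntegral X] (hdim : topologicalKrullDim X ≤ ((2 : ℕ) : WithBot ℕ∞))
  [HasInjectiveResolutions X.Modules] (π : X ⟶ CohB1.ProjSpace 1 k)
  (hπk : π ≫ CohB1.ProjSpace.toSpec 1 k = X ↘ (Spec (CommRingCat.of k))) (hπs : Function.Surjective π)

include hdim hπk hπs in
theorem vanish_of_restrict_surjective {L : X.Modules} (hL : PicF.IsInvertible L)
    (hR1 : IsZero ((Coh.Rpush π 1).obj L))
    (q : ↥(CohB1.ProjSpace 1 k)) (hq : IsClosed ({q} : Set ↥(CohB1.ProjSpace 1 k)))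
    (hres : Module.finrank k (Coh.HH X L 0) =
      Module.finrank k (Coh.HH X (CohB1.tensorMod L (ClSub.idealMod ((Scheme.IdealSheafData.vanishingIdeal ⟨{q}, hq⟩).comap π))) 0) +
        Module.finrank k (Coh.HH X (CohB1.tensorMod (ClSub.quotMod ((Scheme.IdealSheafData.vanishingIdeal ⟨{q}, hq⟩).comap π)) L) 0)) :
    Subsingleton (Coh.HH X L 1) ∧ Subsingleton (Coh.HH X (CohB1.tensorMod L (ClSub.idealMod ((Scheme.IdealSheafData.vanishingIdeal ⟨{q}, hq⟩).comap π))) 1) ∧
      Subsingleton (Coh.HH (CohB1.ProjSpace 1 k) (CohB1.tensorMod ((Coh.push π).obj L) (Twist.twistProjSpace 1 k (-1))) 1) := by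
  letI : (CohB1.ProjSpace 1 k).Over (Spec (CommRingCat.of k)) := ⟨CohB1.ProjSpace.toSpec 1 k⟩
  haveI : IsProper (CohB1.ProjSpace 1 k ↘ Spec (CommRingCat.of k)) := Chow.isProper_toSpec 1 k
  haveI : IsProper (CohB1.ProjSpace.toSpec 1 k) := Chow.isProper_toSpec 1 k
  haveI : IsIntegral (CohB1.ProjSpace 1 k) := ProjDim.isIntegral_proj k 1
  haveI : Smooth (CohB1.ProjSpace 1 k ↘ Spec (CommRingCat.of k)) := GrothLib.CurveMult.smooth_toSpec 1 k
  haveI := Euler.isNoetherian_of_proper (X := CohB1.ProjSpace 1 k) k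
  haveI := Euler.isNoetherian_of_proper (X := X) k
  haveI : IsProper π := by
    haveI : IsProper (π ≫ CohB1.ProjSpace.toSpec 1 k) := by rw [hπk]; infer_instance
    exact IsProper.of_comp π (CohB1.ProjSpace.toSpec 1 k)
  haveI : JacobsonSpace (CohB1.ProjSpace 1 k) :=
    LocallyOfFiniteType.jacobsonSpace (CohB1.ProjSpace 1 k ↘ Spec (CommRingCat.of k))
  have hd1 : topologicalKrullDim (CohB1.ProjSpace 1 k) = 1 := dim_P1 k
  have hjac : ∀ S : Set (CohB1.ProjSpace 1 k), IsClosed S → S.Nonempty →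
      ∃ w ∈ S, IsClosed ({w} : Set (CohB1.ProjSpace 1 k)) := fun S hS hne => by
    obtain ⟨w, hw, hwc⟩ := nonempty_inter_closedPoints hne hS.isLocallyClosed
    exact ⟨w, hw, hwc⟩
  have hgen : genericPoint (CohB1.ProjSpace 1 k) ≠ q := fun h => by
    have hu : ({q} : Set (CohB1.ProjSpace 1 k)) = Set.univ := by
      rw [← hq.closure_eq, ← h]
      exact genericPoint_spec _
    have h2 : topologicalKrullDim (CohB1.ProjSpace 1 k) ≤ 0 := by
      haveI : Subsingleton (CohB1.ProjSpace 1 k) := ⟨fun a b => by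
        have ha : a ∈ ({q} : Set (CohB1.ProjSpace 1 k)) := hu ▸ trivial
        have hb : b ∈ ({q} : Set (CohB1.ProjSpace 1 k)) := hu ▸ trivial
        rw [Set.mem_singleton_iff.1 ha, Set.mem_singleton_iff.1 hb]⟩
      haveI : Subsingleton (IrreducibleCloseds (CohB1.ProjSpace 1 k)) := ⟨fun A B => IrreducibleCloseds.ext (by
        show (A.carrier : Set _) = B.carrier
        rw [A.2.1.eq_univ, B.2.1.eq_univ])⟩
      exact Order.krullDim_nonpos_of_subsingleton
    rw [hd1] at h2
    norm_num at h2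
  have hπg : π (genericPoint X) = genericPoint (CohB1.ProjSpace 1 k) := by
    apply ((genericPoint_spec (CohB1.ProjSpace 1 k)).eq ?_).symm
    have h1 := (genericPoint_spec X).image π.continuous
    rwa [Set.image_univ, hπs.range_eq, closure_univ] at h1
  have hne : ∀ z : CohB1.ProjSpace 1 k, ∃ z', z' ≠ z := fun z => by
    by_cases h : z = q
    · exact ⟨_, h ▸ hgen⟩
    · exact ⟨q, Ne.symm h⟩
  have hsp : ∀ z : CohB1.ProjSpace 1 k, ¬ IsClosed ({z} : Set _) → q ∈ closure {z} := fun z hz => by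
    rw [dense_of_not_isClosed (le_of_eq hd1) hjac hz]
    trivial
  -- the direct image
  let E := (Scheme.Modules.pushforward π).obj L
  have hLc := Euler.isCoh_of_isInvertible hL
  have hEc : Coh.IsCoh E := FormalExist7.isCoh_pushforward π hLc
  have hEtf : TorSh.IsTorsionFree E := NormPush11.isTorsionFree_push π hπg
    (Euler.isTorsionFree_of_mono (𝟙 L) (Euler.isFinLocFree_of_isInvertible hL))
  obtain ⟨d, -, ⟨eE⟩⟩ := CurveMult.P1Split.exists_splitting k _ E
    (Euler.isFinLocFreeOfRank_of_torsionFree (CurveMult.P1Split.pid k) hEc hEtf)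
  -- the class of the fibre
  set J := Scheme.IdealSheafData.vanishingIdeal (⟨{q}, hq⟩ : Closeds (CohB1.ProjSpace 1 k)) with hJdef
  have hJk : J = ((CohB1.ProjSpace 1 k).fromSpecResidueField q).ker := by
    rw [hJdef, CurveMult.ker_fromSpecResidueField hq]
  have hJ : PicF.IsInvertible (ClSub.idealMod J) := hJk ▸ HodgeIndex.isInvertible_point (k := k) hd1 hq
  obtain ⟨m, ⟨w⟩⟩ := ProjPic26.exists_iso_twist (R := k) (n := 1) hJ
  have hm : m = -1 := by
    let t : Spec (CommRingCat.of k) ⟶ CohB1.ProjSpace 1 k :=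
      Spec.map (residueFieldIsoBase (CohB1.ProjSpace.toSpec 1 k) q hq).hom ≫ (CohB1.ProjSpace 1 k).fromSpecResidueField q
    have ht : t ≫ CohB1.ProjSpace 1 k ↘ Spec (CommRingCat.of k) = 𝟙 _ := by
      show (_ ≫ _) ≫ CohB1.ProjSpace.toSpec 1 k = _
      rw [Category.assoc, ← SpecMap_residueFieldIsoBase_inv (CohB1.ProjSpace.toSpec 1 k) q hq, ← Spec.map_comp,
        Iso.inv_hom_id, Spec.map_id]
    have h := CurveProd28.deg_idealMod_pt k hd1 t ht
    rw [CurveProd28.ker_pt k t ht, show t (IsLocalRing.closedPoint k) = q from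
      (CohB1.ProjSpace 1 k).fromSpecResidueField_apply q _,
      ← hJk] at h
    have h2 := CurveMult.P1Split.deg_O1 k m
    rw [Curv2.deg, Euler.euler_of_iso k w] at h
    rw [Curv2.deg] at h2
    exact h2.symm.trans h
  have hJc := IdealModSec.isEffCartier_of_isInvertible hJ
  have hgJ : π (genericPoint X) ∉ (J.support : Set (CohB1.ProjSpace 1 k)) := by
    rw [hπg, hJdef, Scheme.IdealSheafData.coe_support_vanishingIdeal]
    exact hgen
  have hI : PicF.IsInvertible (ClSub.idealMod (J.comap π)) :=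
    IdealModSec.isInvertible_of_isEffCartier (HypSq28.isEffCartier_comap_dominant π hJc hgJ)
  have hcI : clsMod hI = pull π (tw k 1 (-1)) := by
    rw [← Contract29.pull_cls_comap π J hJ hI]
    exact congrArg _ ((Cube.clsMod_eq_iff _ _).2 (by subst hm; exact ⟨w⟩))
  -- the twisted bundle
  have hN : PicF.IsInvertible (O1 k (-1)) := inv_O1 k (-1)
  have hNf := Euler.isFinLocFree_of_isInvertible hN
  have hπN := Ample.isInvertible_pullback π hN
  let G := CohB1.tensorMod ((Scheme.Modules.pullback π).obj (O1 k (-1))) L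
  have hG : PicF.IsInvertible G := Ample.isInvertible_tensorMod hπN hL
  have hG1 : IsZero ((Coh.Rpush π 1).obj G) := by
    obtain ⟨e⟩ := Groth.Agent.S0927.result π L (O1 k (-1)) hNf 1
    exact ((Euler.tF (O1 k (-1))).map_isZero hR1).of_iso
      (e.symm ≪≫ (((OX.tensorBraiding (X := CohB1.ProjSpace 1 k)).app (O1 k (-1))).app ((Coh.Rpush π 1).obj L)).symm)
  have hLI := Ample.isInvertible_tensorMod hL hI
  obtain ⟨eG⟩ : Nonempty (CohB1.tensorMod L (ClSub.idealMod (J.comap π)) ≅ G) :=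
    (Cube.clsMod_eq_iff hLI hG).1 (by
      rw [Cube.clsMod_tensorMod hL hI, Cube.clsMod_tensorMod hπN hL, hcI, Cube.clsMod_pullback π hN, mul_comm])
  obtain ⟨p1⟩ := RatSing29.nonempty_push_linearEquiv (A := k) π hπk.symm L
    (acyclic_of_R1 π hdim hπs hq hsp hne hLc hR1) 1
  obtain ⟨p2⟩ := RatSing29.nonempty_push_linearEquiv (A := k) π hπk.symm G
    (acyclic_of_R1 π hdim hπs hq hsp hne (Euler.isCoh_of_isInvertible hG) hG1) 1
  obtain ⟨e0⟩ := Groth.Agent.S0927.result π L (O1 k (-1)) hNf 0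
  let eE' : (Scheme.Modules.pushforward π).obj G ≅ (Euler.tF (O1 k (-1))).obj E :=
    ((Scheme.Modules.pushforward π).rightDerivedZeroIsoSelf.app G).symm ≪≫ e0.symm ≪≫
      (((OX.tensorBraiding (X := CohB1.ProjSpace 1 k)).app (O1 k (-1))).app ((Coh.Rpush π 0).obj L)).symm ≪≫
      (Euler.tF (O1 k (-1))).mapIso ((Scheme.Modules.pushforward π).rightDerivedZeroIsoSelf.app L)
  obtain ⟨et⟩ := CurveMult.P1Split.nonempty_twist_sum k _ d (-1)
  let eT : (Euler.tF (O1 k (-1))).obj E ≅ _ := (Euler.tF (O1 k (-1))).mapIso eE ≪≫ et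
  have a1 : Module.finrank k (Coh.HH X L 1) = ∑ i, (-d i - 1).toNat := by
    rw [p1.finrank_eq, (Euler.hhEquiv (A := k) eE 1).finrank_eq, finrank_H1_sum]
  have a2 : Module.finrank k (Coh.HH (CohB1.ProjSpace 1 k) ((Euler.tF (O1 k (-1))).obj E) 1) = ∑ i, (-d i).toNat := by
    rw [(Euler.hhEquiv (A := k) eT 1).finrank_eq, finrank_H1_sum]
    exact Finset.sum_congr rfl fun i _ => by congr 1; ring
  have a3 : Module.finrank k (Coh.HH X (CohB1.tensorMod L (ClSub.idealMod (J.comap π))) 1) = ∑ i, (-d i).toNat := by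
    rw [(Euler.hhEquiv (A := k) eG 1).finrank_eq, p2.finrank_eq, (Euler.hhEquiv (A := k) eE' 1).finrank_eq, a2]
  -- the sequence
  haveI := Euler.epi_toSubscheme (J.comap π)
  let S := ShortComplex.mk (ClSub.idealModι (J.comap π)) (ClSub.toSubscheme (J.comap π)) (kernel.condition _)
  haveI : Mono S.f := inferInstanceAs (Mono (kernel.ι (ClSub.toSubscheme (J.comap π))))
  haveI : Epi S.g := Euler.epi_toSubscheme (J.comap π)
  have hS : S.ShortExact := { exact := ShortComplex.exact_of_f_is_kernel _ (kernelIsKernel _) }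
  have hlf := Euler.isFinLocFree_of_isInvertible hL
  let T := S.map (Euler.tF L)
  have hT : T.ShortExact := OX.tensor_map_shortExact (OX.flat_of_isFinLocFree hlf) hS
  have hIL := Ample.isInvertible_tensorMod hI hL
  obtain ⟨c₁⟩ : Nonempty (CohB1.tensorMod L (ClSub.idealMod (J.comap π)) ≅ T.X₁) :=
    (Cube.clsMod_eq_iff hLI hIL).1 (by rw [Cube.clsMod_tensorMod hL hI, Cube.clsMod_tensorMod hI hL, mul_comm])
  let e₂ : T.X₂ ≅ L := OX.tensorUnitLeftIso L
  have hle := h1_le_of_h0_eq k hT (Euler.isCoh_tF (Euler.isCoh_of_isInvertible hI) hlf)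
    (Euler.isCoh_tF (Kleiman.isCoh_O (X := X) k) hlf) (Euler.isCoh_tF (QCoh.pushUnit_isCoh _) hlf) (by
      rw [(Euler.hhEquiv (A := k) e₂ 0).finrank_eq, ← (Euler.hhEquiv (A := k) c₁ 0).finrank_eq]
      exact hres)
  rw [(Euler.hhEquiv (A := k) e₂ 1).finrank_eq, ← (Euler.hhEquiv (A := k) c₁ 1).finrank_eq, a1, a3] at hle
  have hd0 : ∀ i, 0 ≤ d i := fun i => by
    by_contra hi
    have : ∑ i, (-d i - 1).toNat < ∑ i, (-d i).toNat :=
      Finset.sum_lt_sum (fun j _ => by omega) ⟨i, Finset.mem_univ i, by omega⟩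
    omega
  have z1 : ∑ i, (-d i - 1).toNat = 0 := Finset.sum_eq_zero fun i _ => by have := hd0 i; omega
  have z2 : ∑ i, (-d i).toNat = 0 := Finset.sum_eq_zero fun i _ => by have := hd0 i; omega
  haveI := Euler.finiteDimensional_HH k hLc 1
  haveI := Euler.finiteDimensional_HH k (Euler.isCoh_of_isInvertible hLI) 1
  haveI := Euler.finiteDimensional_HH k (Euler.isCoh_tF hEc hNf) 1
  have hsub : Subsingleton (Coh.HH (CohB1.ProjSpace 1 k) ((Euler.tF (O1 k (-1))).obj E) 1) :=
    Module.finrank_zero_iff.1 (a2.trans z2)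
  refine ⟨Module.finrank_zero_iff.1 (a1.trans z1), Module.finrank_zero_iff.1 (a3.trans z2), ?_⟩
  exact hsub

end GrothLib.PlaneBlow28
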