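import Groth.Agent.Lib.PlaneBlow28.NegCurve
import Groth.Agent.Lib.PlaneBlow28.Leray
import Groth.Agent.Lib.SurfRR28.Canonical
import Groth.Agent.Lib.HodgeIndex.Pullback

/-!
# Fibres of a fibration of a surface over a curve
-/

universe u

set_option autoImplicit false
set_option linter.all false
set_option backward.isDefEq.respectTransparency false
set_option maxHeartbeats 1000000

open CategoryTheory CategoryTheory.Limits AlgebraicGeometry TopologicalSpace

noncomputable section

namespace GrothLib.PlaneBlow28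

open GrothLib.Cube (Pic clsMod pull)
open GrothLib.HodgeIndex (rep isInv_rep cls_rep chi euler_eq_chi chi_one isect cCl)
open GrothLib.Snapper (IsTop)

variable (k : Type u) [Field k] {X C : Scheme.{u}} [X.Over (Spec (CommRingCat.of k))]
  [C.Over (Spec (CommRingCat.of k))] [IsProper (X ↘ Spec (CommRingCat.of k))]
  [IsProper (C ↘ Spec (CommRingCat.of k))] [IsIntegral X]
  (hdim : topologicalKrullDim X = ((2 : ℕ) : WithBot ℕ∞)) [IsIntegral C]
  [Smooth (C ↘ Spec (CommRingCat.of k))] (hdimC : topologicalKrullDim C = 1)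
  (f : X ⟶ C) (hf : f ≫ C ↘ Spec (CommRingCat.of k) = X ↘ Spec (CommRingCat.of k))
  (hs : Function.Surjective f) {q : C} (hq : IsClosed ({q} : Set C))

include k hdimC in
theorem exists_ne_of_curve (z : C) : ∃ z', z' ≠ z := by
  by_contra hne
  push Not at hne
  haveI : Subsingleton C := ⟨fun a b => (hne a).trans (hne b).symm⟩
  have h2 : topologicalKrullDim C ≤ 0 := by
    haveI : Subsingleton (IrreducibleCloseds C) := ⟨fun A B => IrreducibleCloseds.ext (by
      show (A.carrier : Set _) = B.carrier
      rw [A.2.1.eq_univ, B.2.1.eq_univ])⟩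
    exact Order.krullDim_nonpos_of_subsingleton
  rw [hdimC] at h2
  norm_num at h2

include k hdimC hq in
theorem mem_closure_of_not_isClosed (z : C) (hz : ¬ IsClosed ({z} : Set C)) : q ∈ closure {z} := by
  haveI : JacobsonSpace C := LocallyOfFiniteType.jacobsonSpace (C ↘ Spec (CommRingCat.of k))
  rw [dense_of_not_isClosed (le_of_eq hdimC) (fun S hS hne => by
    obtain ⟨w, hw, hwc⟩ := nonempty_inter_closedPoints hne hS.isLocallyClosed
    exact ⟨w, hw, hwc⟩) hz]
  trivial

include k hdimC hs hq in
theorem fibre_ideal : ∃ (hI : PicF.IsInvertible (ClSub.idealMod (f.fiberι q).ker))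
    (hp : PicF.IsInvertible (ClSub.idealMod (C.fromSpecResidueField q).ker)),
    clsMod hI = pull f (clsMod hp) := by
  haveI := Euler.isNoetherian_of_proper (X := C) k
  haveI := Euler.isNoetherian_of_proper (X := X) k
  haveI := isClosed_singleton_iff_isClosedImmersion.1 hq
  haveI : IsClosedImmersion (f.fiberι q) := MorphismProperty.pullback_fst _ _ inferInstance
  have hp := HodgeIndex.isInvertible_point (k := k) hdimC hq
  have hker : (f.fiberι q).ker = (C.fromSpecResidueField q).ker.comap f :=
    Scheme.IdealSheafData.ker_fst_of_isClosedImmersion (C.fromSpecResidueField q) f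
  have hgen : f (genericPoint X) ∉ ((C.fromSpecResidueField q).ker.support : Set C) := fun h => by
    rw [Scheme.Hom.support_ker, Scheme.range_fromSpecResidueField, hq.closure_eq] at h
    obtain ⟨z, hz⟩ := exists_ne_of_curve k hdimC q
    obtain ⟨x, hx⟩ := hs z
    have h1 : x ∈ f ⁻¹' {q} :=
      (hq.preimage f.continuous).closure_subset_iff.2 (Set.singleton_subset_iff.2 h)
        (by rw [(genericPoint_spec X)]; trivial)
    exact hz (hx.symm.trans h1)
  have hI : PicF.IsInvertible (ClSub.idealMod (f.fiberι q).ker) := hker ▸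
    IdealModSec.isInvertible_of_isEffCartier
      (HypSq28.isEffCartier_comap_dominant f (IdealModSec.isEffCartier_of_isInvertible hp) hgen)
  exact ⟨hI, hp, (HodgeIndex.cls_fibre f hq hp hI).trans (Cube.clsMod_pullback f hp)⟩

include hdim hdimC hf hs hq in
/-- Classes pulled back from the curve are orthogonal to the fibre, and the canonical degree of the fibre. -/
theorem fibre_isect (hI : PicF.IsInvertible (ClSub.idealMod (f.fiberι q).ker)) (a : Pic C) :
    isect k (pull f a) (clsMod hI)⁻¹ = 0 := by
  haveI := Euler.isNoetherian_of_proper (X := C) k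
  haveI := isClosed_singleton_iff_isClosedImmersion.1 hq
  haveI : IsClosedImmersion (f.fiberι q) := MorphismProperty.pullback_fst _ _ inferInstance
  letI : (f.fiber q).Over (Spec (CommRingCat.of k)) := ⟨f.fiberι q ≫ X ↘ Spec (CommRingCat.of k)⟩
  haveI : IsProper (f.fiber q ↘ Spec (CommRingCat.of k)) :=
    inferInstanceAs (IsProper (f.fiberι q ≫ X ↘ Spec (CommRingCat.of k)))
  haveI : IsProper f := by
    haveI : IsProper (f ≫ C ↘ Spec (CommRingCat.of k)) := by rw [hf]; infer_instance
    exact IsProper.of_comp f (C ↘ Spec (CommRingCat.of k))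
  have hY : topologicalKrullDim (f.fiber q) ≤ ((1 : ℕ) : WithBot ℕ∞) :=
    krullDim_le_one_of_fibre f.continuous f.isClosedMap hs hdim.le hq
      (mem_closure_of_not_isClosed k hdimC hq) (exists_ne_of_curve k hdimC)
      (f.fiberι q).isEmbedding (y := q) fun t => by
        have h : f.fiberι q t ∈ Set.range (f.fiberι q) := Set.mem_range_self t
        rwa [Scheme.Hom.range_fiberι] at h
  obtain ⟨-, -, -, -, -, -, s1⟩ := HypSq28.seq k (f.fiberι q) rfl hI hY (pull f a)
  obtain ⟨-, -, -, -, -, -, s0⟩ := HypSq28.seq k (f.fiberι q) rfl hI hY 1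
  have h1 : pull (f.fiberι q) (pull f a) = 1 := by
    rw [Cube.pull_comp, f.fiber_fac q, ← Cube.pull_comp, ProjPic26.pic_spec_field_eq_one _ (pull (C.fromSpecResidueField q) a),
      map_one]
  rw [h1] at s1
  rw [map_one, one_mul] at s0
  have hn := HodgeIndex.isect_inv_right k hdim.le (pull f a) (clsMod hI)
  rw [hn, isect]
  linarith

variable [Smooth (X ↘ Spec (CommRingCat.of k))] [IsAlgClosed k]

include hdim hdimC hf hs hq in
/-- A fibre has square zero and canonical degree `-2χ`. -/
theorem fibre_canonical (hI : PicF.IsInvertible (ClSub.idealMod (f.fiberι q).ker)) {W : X.Modules}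
    (hW : ExtPow.IsExtPow 2 (Omega.sheaf (X ↘ Spec (CommRingCat.of k))) W) :
    isect k (clsMod hI)⁻¹ (clsMod hI)⁻¹ = 0 ∧
      isect k (clsMod (SurfRR28.isInvertible_W k hdim hW)) (clsMod hI)⁻¹ =
        -2 * Curv2.euler k X (ClSub.quotMod (f.fiberι q).ker) := by
  obtain ⟨hI', hp, e⟩ := fibre_ideal k hdimC f hs hq
  have h0 : isect k (clsMod hI)⁻¹ (clsMod hI)⁻¹ = 0 := by
    rw [HodgeIndex.isect_inv_left k hdim.le, show clsMod hI = pull f (clsMod hp) from e,
      ← show clsMod hI = pull f (clsMod hp) from e]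
    nth_rewrite 1 [show clsMod hI = pull f (clsMod hp) from e]
    rw [fibre_isect k hdim hdimC f hf hs hq hI, neg_zero]
  refine ⟨h0, ?_⟩
  obtain ⟨hs2, n, ι, hι, hιc⟩ := SurfRR28.exists_embedding k X hdim
  haveI := hs2
  haveI := hι
  haveI := isClosed_singleton_iff_isClosedImmersion.1 hq
  haveI : IsClosedImmersion (f.fiberι q) := MorphismProperty.pullback_fst _ _ inferInstance
  letI : (f.fiber q).Over (Spec (CommRingCat.of k)) := ⟨f.fiberι q ≫ X ↘ Spec (CommRingCat.of k)⟩
  have h := SurfRR28.adjunction k ι hιc W hW (f.fiberι q) rfl hI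
  have hWi := SurfRR28.isInvertible_W k hdim hW
  rw [SurfRR28.intNum_eq_isect' k hdim.le hI hI, SurfRR28.intNum_eq_isect' k hdim.le hI hWi] at h
  have hC : Curv2.euler k (f.fiber q) (Coh.structureModule (f.fiber q)) =
      Curv2.euler k X (ClSub.quotMod (f.fiberι q).ker) := by
    rw [← Euler.euler_of_iso k (Ample.nonempty_pullback_structureModule (f.fiberι q)).some,
      Kleiman.euler_pullback_eq_quotMod k (f.fiberι q) rfl Euler.isInvertible_structure]
    exact Kleiman.euler_tensor_structure k _
  rw [hC] at h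
  rw [HodgeIndex.isect_inv_left k hdim.le, HodgeIndex.isect_inv_right k hdim.le, neg_neg] at h0
  rw [HodgeIndex.isect_inv_right k hdim.le, HodgeIndex.isect_comm]
  linarith

include hdim hf in
/-- Classes pulled back from the curve have degree zero on vertical curves. -/
theorem vertical_isect {D : X.IdealSheafData} (hDi : IsIntegral D.subscheme)
    (hDd : topologicalKrullDim (D.support : Set X) = 1) {c : C} (hc : ∀ x : X, x ∈ D.support → f.base x = c)
    (a : Pic C) : isect k (pull f a) (cCl D) = 0 := by
  obtain ⟨y, hy, -, hyD, h⟩ := HodgeIndex.isect_cCl_eq_deg k hdim hDi hDd (pull f a)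
  haveI : IsProper f := by
    haveI : IsProper (f ≫ C ↘ Spec (CommRingCat.of k)) := by rw [hf]; infer_instance
    exact IsProper.of_comp f (C ↘ Spec (CommRingCat.of k))
  have hcl : IsClosed ({f y} : Set C) := by
    have he : f '' (D.support : Set X) = {c} :=
      Set.eq_singleton_iff_unique_mem.2 ⟨⟨y, hyD, hc y hyD⟩, by rintro _ ⟨x, hx, rfl⟩; exact hc x hx⟩
    rw [show f y = c from hc y hyD, ← he]
    exact f.isClosedMap _ D.support.isClosed
  have h0 := (HodgeIndex.deg_pullback k f hf (isInv_rep a) hy).1 (HodgeIndex.not_isTop_of_isClosed hcl)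
  rw [Cube.clsMod_pullback f (isInv_rep a), cls_rep] at h0
  rw [h0] at h
  exact_mod_cast h

end GrothLib.PlaneBlow28
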