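import Groth.Agent.Lib.PlaneBlow28.StrictDeg
import Groth.Agent.Lib.PlaneBlow28.Fibration
import Groth.Agent.Lib.PlaneBlow28.P1H1
import Groth.Agent.Lib.CurveMult.StableSeparated
import Groth.Agent.Lib.CurveMult.NefGenusZero
import Groth.Agent.Lib.CurveMult.PointQuot
import Groth.Agent.Lib.Poincare.RpushSupport
import Groth.Agent.Lib.Seesaw26.LocalGood
import Groth.Agent.Lib.Seesaw26.Functions
import Groth.Agent.Lib.Seesaw26.Closed
import Groth.Agent.Lib.CurvePoints.Basic
import Groth.Agent.Lib.Adj27.Variety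
import Groth.Agent.Lib.RatSing29.AcyclicPush
import Groth.Agent.Lib.KSix19.ImmPC
import Groth.Agent.Lib.LocFree8.Basic
import Groth.Agent.Lib.RpushSupp20.Main

/-!
# Surfaces fibred in lines over a curve
-/

universe u

set_option autoImplicit false
set_option linter.all false
set_option backward.isDefEq.respectTransparency false
set_option maxHeartbeats 1000000

open CategoryTheory CategoryTheory.Limits AlgebraicGeometry TopologicalSpace

noncomputable section

namespace GrothLib.PlaneBlow28

open GrothLib.Cube (Pic clsMod pull)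
open GrothLib.HodgeIndex (chi isect)

variable (k : Type u) [Field k] [IsAlgClosed k]

/-- A scheme isomorphic to the line has no first cohomology, whatever its structure over the field. -/
theorem subsingleton_H1_of_iso_P1 {F : Scheme.{u}} (e : F ≅ CohB1.ProjSpace 1 k) :
    Subsingleton (Coh.HH F (Coh.structureModule F) 1) := by
  letI := GrothLib.CurveMult.P1Split.overP1 (k := k)
  letI : F.Over (Spec (CommRingCat.of k)) := ⟨e.hom ≫ (CohB1.ProjSpace 1 k ↘ Spec (CommRingCat.of k))⟩
  haveI := Cohom.isQuasicoherent_structureModule F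
  obtain ⟨l⟩ := Snapper.nonempty_HH_linearEquiv_pushforward (A := k) e.hom rfl (Coh.structureModule F) 1
  haveI : IsProper (CohB1.ProjSpace 1 k ↘ Spec (CommRingCat.of k)) := GrothLib.Chow.isProper_toSpec 1 k
  haveI : IsIntegral (CohB1.ProjSpace 1 k) := ProjDim.isIntegral_proj k 1
  haveI := Euler.isNoetherian_of_proper (X := CohB1.ProjSpace 1 k) k
  haveI := Euler.finiteDimensional_HH k (Kleiman.isCoh_O (X := CohB1.ProjSpace 1 k) k) 1
  have hO : Module.finrank k (Coh.HH (CohB1.ProjSpace 1 k) (Coh.structureModule (CohB1.ProjSpace 1 k)) 1) = 0 := by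
    obtain ⟨w⟩ := CMReg.nonempty_twist_zero (n := 1) (k := k)
    rw [← (Euler.hhEquiv (A := k) w 1).finrank_eq]
    exact finrank_H1_O1 k 0
  haveI := Module.finrank_zero_iff.1 hO
  exact (l.trans (Euler.hhEquiv (A := k) (KSix19.pushStructureIso e) 1)).toEquiv.subsingleton

variable {X C : Scheme.{u}} [X.Over (Spec (CommRingCat.of k))] [C.Over (Spec (CommRingCat.of k))]
  [IsProper (X ↘ Spec (CommRingCat.of k))] [Smooth (X ↘ Spec (CommRingCat.of k))] [IsIntegral X]
  [IsProper (C ↘ Spec (CommRingCat.of k))] [Smooth (C ↘ Spec (CommRingCat.of k))] [IsIntegral C]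
  (hdim : topologicalKrullDim X = ((2 : ℕ) : WithBot ℕ∞)) (hdimC : topologicalKrullDim C = 1)
  (π : X ⟶ C) (hπ : π ≫ C ↘ Spec (CommRingCat.of k) = X ↘ Spec (CommRingCat.of k))
  (hs : Function.Surjective π)
  (hfib : ∀ y : C, IsClosed ({y} : Set C) → Nonempty (pullback π (C.fromSpecResidueField y) ≅ CohB1.ProjSpace 1 k))

include hπ in
theorem isProper_ruled : IsProper π := by
  haveI : IsProper (π ≫ C ↘ Spec (CommRingCat.of k)) := by rw [hπ]; infer_instance
  exact IsProper.of_comp π (C ↘ Spec (CommRingCat.of k))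

include k hdimC hπ hs in
theorem flat_ruled : Flat π := by
  haveI := isProper_ruled k π hπ
  haveI := Euler.isNoetherian_of_proper (X := C) k
  refine CurvePoints.flat_of_dominant (le_of_eq hdimC) (fun y => ?_) π ?_
  · haveI := HodgeIndex.regular_of_smooth k (X := C) y
    exact RegLoc.isIntegrallyClosed_of_isRegularLocalRing _
  · obtain ⟨w, hw⟩ := hs (genericPoint C)
    have h := (genericPoint_specializes (α := X) w).map π.continuous
    rw [hw] at h
    exact (h.antisymm (genericPoint_specializes _)).eq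

include k hfib in
theorem fibre_integral {y : C} (hy : IsClosed ({y} : Set C)) :
    IsIntegral (π.fiber y) ∧ topologicalKrullDim (π.fiber y) = 1 := by
  obtain ⟨e⟩ := hfib y hy
  haveI := ProjDim.isIntegral_proj k 1
  haveI : Nonempty (π.fiber y) := ⟨e.inv (genericPoint (CohB1.ProjSpace 1 k))⟩
  refine ⟨isIntegral_of_isOpenImmersion e.hom, ?_⟩
  let e' : π.fiber y ≅ CohB1.ProjSpace 1 k := e
  rw [(Scheme.homeoOfIso e').isHomeomorph.topologicalKrullDim_eq]
  exact CurveMult.P1Split.dim_P1 k

include hdim hdimC hπ hs hfib in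
/-- Cohomology of a line bundle on a fibre. -/
theorem fibre_data {y : C} (hy : IsClosed ({y} : Set C)) :
    ∃ hI : PicF.IsInvertible (ClSub.idealMod ((Scheme.IdealSheafData.vanishingIdeal ⟨{y}, hy⟩).comap π)),
      ∀ (L : X.Modules) (hL : PicF.IsInvertible L) (d : ℕ), (d : ℤ) ≤ - isect k (clsMod hL) (clsMod hI) →
        (∀ p, 1 ≤ p → Subsingleton (CohIII.fiberH π L y p)) ∧
          (CohIII.fiberRank π L 0 y : ℤ) = 1 - isect k (clsMod hL) (clsMod hI) := by
  haveI := isProper_ruled k π hπ
  haveI := Euler.isNoetherian_of_proper (X := X) k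
  haveI := Euler.isNoetherian_of_proper (X := C) k
  haveI := isClosed_singleton_iff_isClosedImmersion.1 hy
  haveI : IsClosedImmersion (π.fiberι y) := MorphismProperty.pullback_fst _ _ inferInstance
  obtain ⟨hI', -, -⟩ := fibre_ideal k hdimC π hs hy
  have hker : (π.fiberι y).ker = (Scheme.IdealSheafData.vanishingIdeal ⟨{y}, hy⟩).comap π := by
    rw [← CurveMult.ker_fromSpecResidueField hy]
    exact Scheme.IdealSheafData.ker_fst_of_isClosedImmersion (C.fromSpecResidueField y) π
  have hI : PicF.IsInvertible (ClSub.idealMod ((Scheme.IdealSheafData.vanishingIdeal ⟨{y}, hy⟩).comap π)) := by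
    rw [← hker]; exact hI'
  have hcls : clsMod hI' = clsMod hI := by
    rw [Cube.clsMod_eq_iff]
    exact ⟨eqToIso (by rw [hker])⟩
  refine ⟨hI, fun L hL d hd => ?_⟩
  obtain ⟨hint, hdF⟩ := fibre_integral k π hfib hy
  haveI := hint
  obtain ⟨e⟩ := hfib y hy
  letI : (π.fiber y).Over (Spec (CommRingCat.of k)) := ⟨π.fiberι y ≫ X ↘ Spec (CommRingCat.of k)⟩
  haveI : IsProper (π.fiber y ↘ Spec (CommRingCat.of k)) :=
    inferInstanceAs (IsProper (π.fiberι y ≫ X ↘ Spec (CommRingCat.of k)))
  let M := (Scheme.Modules.pullback (π.fiberι y)).obj L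
  have hM : PicF.IsInvertible M := Ample.isInvertible_pullback (π.fiberι y) hL
  have h1 : Subsingleton (Coh.HH (π.fiber y) (Coh.structureModule (π.fiber y)) 1) := subsingleton_H1_of_iso_P1 k e
  have hdeg : Curv2.euler k (π.fiber y) M - Curv2.euler k (π.fiber y) (Coh.structureModule (π.fiber y)) =
      - isect k (clsMod hL) (clsMod hI) := by
    rw [← hcls, ← Kleiman.curveDeg_eq_euler k hdF.le hM]
    exact curveDeg_eq_neg_isect k (π.fiberι y) hdF.le hL hI'
  haveI := Euler.isNoetherian_of_proper (X := π.fiber y) k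
  obtain ⟨hM1, -⟩ := CurveMult.nef_of_genus_zero_integral k hdF.le h1 hM
    (by rw [Curv2.deg]; push_cast; omega)
  refine ⟨fun p hp => ?_, ?_⟩
  · rcases eq_or_lt_of_le hp with rfl | hp2
    · exact hM1
    · haveI : M.IsQuasicoherent :=
        Euler.isQuasicoherent_of_isFinLocFree (Euler.isFinLocFree_of_isInvertible hM)
      exact Euler.subsingleton_HH_of_dim_le_one (A := k) (by exact_mod_cast hdF.le) M p (by omega)
  · let g := C ↘ Spec (CommRingCat.of k)
    let t : Spec (CommRingCat.of k) ⟶ C := Spec.map (residueFieldIsoBase g y hy).hom ≫ C.fromSpecResidueField y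
    have hpb : IsPullback (π.fiberι y) (π.fiber y ↘ Spec (CommRingCat.of k)) π t := by
      refine (IsPullback.of_hasPullback π (C.fromSpecResidueField y)).of_iso (Iso.refl _) (Iso.refl _)
        (asIso (Spec.map (residueFieldIsoBase g y hy).inv)) (Iso.refl _) ?_ ?_ ?_ ?_
      · simp
        rfl
      · show pullback.snd π (C.fromSpecResidueField y) ≫ Spec.map (residueFieldIsoBase g y hy).inv =
          𝟙 _ ≫ (π.fiberι y ≫ X ↘ Spec (CommRingCat.of k))
        rw [Category.id_comp, SpecMap_residueFieldIsoBase_inv, ← hπ, ← Category.assoc, ← Category.assoc,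
          show π.fiberι y = pullback.fst π (C.fromSpecResidueField y) from rfl, pullback.condition]
      · simp
      · show C.fromSpecResidueField y ≫ 𝟙 _ = Spec.map (residueFieldIsoBase g y hy).inv ≫ t
        rw [Category.comp_id, ← Category.assoc, ← Spec.map_comp, Iso.hom_inv_id, Spec.map_id, Category.id_comp]
    haveI : L.IsQuasicoherent := InvExt.isQuasicoherent_of_isInvertible hL
    have hrk := CurveMult.StableSeparated.fiberRank_point k π t (π.fiberι y) hpb L 0
    have ht : t (IsLocalRing.closedPoint k) = y := by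
      show (C.fromSpecResidueField y) _ = y
      exact C.fromSpecResidueField_apply y _
    rw [ht] at hrk
    haveI := Euler.isQuasicoherent_of_isFinLocFree (Euler.isFinLocFree_of_isInvertible hM)
    haveI := Cohom.isQuasicoherent_structureModule (π.fiber y)
    haveI := hM1
    haveI := h1
    have e1 := Euler.euler_eq_sub k hdF.le M
    have e0 := Euler.euler_eq_sub k hdF.le (Coh.structureModule (π.fiber y))
    rw [Module.finrank_zero_of_subsingleton (R := k) (M := Coh.HH (π.fiber y) M 1)] at e1
    rw [ConnH0.finrank_H0_eq_one k,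
      Module.finrank_zero_of_subsingleton (R := k) (M := Coh.HH (π.fiber y) (Coh.structureModule (π.fiber y)) 1)] at e0
    rw [hrk]
    push_cast at e0 e1
    change (Module.finrank k (Coh.HH (π.fiber y) M 0) : ℤ) = _
    omega

include hdim hdimC hπ hs hfib in
/-- A line bundle of non-negative degree on the fibres has no higher direct images. -/
theorem ruled_vanish [HasInjectiveResolutions X.Modules] {L : X.Modules} (hL : PicF.IsInvertible L)
    (hdeg : ∀ (y : C) (hy : IsClosed ({y} : Set C))
      (hI : PicF.IsInvertible (ClSub.idealMod ((Scheme.IdealSheafData.vanishingIdeal ⟨{y}, hy⟩).comap π))),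
      isect k (clsMod hL) (clsMod hI) ≤ 0) (p : ℕ) (hp : 1 ≤ p) :
    IsZero ((Coh.Rpush π p).obj L) := by
  haveI := isProper_ruled k π hπ
  haveI := flat_ruled k hdimC π hπ hs
  haveI := Euler.isNoetherian_of_proper (X := X) k
  haveI := Euler.isNoetherian_of_proper (X := C) k
  haveI : JacobsonSpace C := LocallyOfFiniteType.jacobsonSpace (C ↘ Spec (CommRingCat.of k))
  refine OX.isZero_of_subsingleton_stalks _ fun x => not_not.1
    (RpushSupport.notMem_support π L (Euler.isCoh_of_isInvertible hL) (Seesaw26.isFlatOver_of_isInvertible π hL) p ⊤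
      (fun y _ hy => ?_) (x := x) trivial)
  obtain ⟨hI, h⟩ := fibre_data k hdim hdimC π hπ hs hfib hy
  exact (h L hL 0 (by have := hdeg y hy hI; push_cast; omega)).1 p hp

include hdim hdimC hπ hs hfib in
/-- Cohomology of such a bundle is that of its direct image. -/
theorem ruled_hh [HasInjectiveResolutions X.Modules] {L : X.Modules} (hL : PicF.IsInvertible L)
    (hdeg : ∀ (y : C) (hy : IsClosed ({y} : Set C))
      (hI : PicF.IsInvertible (ClSub.idealMod ((Scheme.IdealSheafData.vanishingIdeal ⟨{y}, hy⟩).comap π))),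
      isect k (clsMod hL) (clsMod hI) ≤ 0) (i : ℕ) :
    Nonempty (Coh.HH X L i ≃ₗ[k] Coh.HH C ((Coh.push π).obj L) i) := by
  haveI := isProper_ruled k π hπ
  haveI := Euler.isNoetherian_of_proper (X := X) k
  haveI := Euler.isNoetherian_of_proper (X := C) k
  haveI : L.IsQuasicoherent := InvExt.isQuasicoherent_of_isInvertible hL
  have hac : Cohom.AcyclicOn π.base C.affineOpens (Coh.toAb L) := fun W hW n => by
    refine BlowPt28.subsingleton_ext_restrict L (π ⁻¹ᵁ W) (n + 1) ?_
    obtain ⟨e, -⟩ := BCCoh.exists_Rpush_equiv (f := π) (V := W) (hV := hW) (M := L) (n + 1)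
    refine @Equiv.subsingleton _ _ e.toEquiv ?_
    refine subsingleton_of_forall_eq 0 fun t => ?_
    have h := (IsZero.iff_id_eq_zero _).1 (ruled_vanish k hdim hdimC π hπ hs hfib hL hdeg (n + 1) (by omega))
    simpa using ConcreteCategory.congr_hom (congrArg (fun φ : _ ⟶ _ => Scheme.Modules.Hom.app φ W) h) t
  exact RatSing29.nonempty_push_linearEquiv π hπ.symm L hac i

include k hdimC hπ hs hfib in
/-- `π_* O_X = O_C`. -/
theorem ruled_bijective_app (U : C.Opens) : Function.Bijective (π.app U).hom := by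
  haveI := isProper_ruled k π hπ
  haveI := flat_ruled k hdimC π hπ hs
  haveI := Euler.isNoetherian_of_proper (X := C) k
  haveI : JacobsonSpace C := LocallyOfFiniteType.jacobsonSpace (C ↘ Spec (CommRingCat.of k))
  refine Seesaw26.bijective_app π (Seesaw26.finrank_eq_one_of_closedPoints π (fun y => ?_) fun y hy => ?_) U
  · obtain ⟨w, hw⟩ := hs y
    obtain ⟨z, hz⟩ : w ∈ Set.range (π.fiberι y) := by rw [Scheme.Hom.range_fiberι]; exact hw
    exact ⟨z⟩
  · obtain ⟨hint, -⟩ := fibre_integral k π hfib hy
    haveI := hint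
    exact Seesaw26.finrank_eq_one_of_isAlgClosed π (C ↘ Spec (CommRingCat.of k)) y hy

include hdim hdimC hπ hs hfib in
/-- The direct image is locally free of rank one more than the degree on a fibre. -/
theorem ruled_push_free {L : X.Modules} (hL : PicF.IsInvertible L) (n : ℕ)
    (hdeg : ∀ (y : C) (hy : IsClosed ({y} : Set C))
      (hI : PicF.IsInvertible (ClSub.idealMod ((Scheme.IdealSheafData.vanishingIdeal ⟨{y}, hy⟩).comap π))),
      isect k (clsMod hL) (clsMod hI) = -(n : ℤ)) :
    FlatMod.IsFinLocFreeOfRank (n + 1) ((Coh.push π).obj L) := by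
  haveI := isProper_ruled k π hπ
  haveI := flat_ruled k hdimC π hπ hs
  haveI := Euler.isNoetherian_of_proper (X := X) k
  haveI := Euler.isNoetherian_of_proper (X := C) k
  haveI : JacobsonSpace C := LocallyOfFiniteType.jacobsonSpace (C ↘ Spec (CommRingCat.of k))
  haveI : LocallyOfFinitePresentation π := inferInstance
  haveI : Coh.IsQCoh L := InvExt.isQuasicoherent_of_isInvertible hL
  intro z
  obtain ⟨y, hyz, hy⟩ := nonempty_inter_closedPoints (X := C) (Z := closure ({z} : Set C))
    (Set.singleton_nonempty z).closure isClosed_closure.isLocallyClosed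
  obtain ⟨hI, h⟩ := fibre_data k hdim hdimC π hπ hs hfib hy
  have hd := hdeg y hy hI
  obtain ⟨h1, h0⟩ := h L hL n (by omega)
  have hr : CohIII.fiberRank π L 1 y = 0 := BCCoh.fiberRank_eq_zero_of_subsingleton π L 1 y (h1 1 le_rfl)
  have hgood : BCCrit.GoodAll π L ((0 : ℕ) : ℤ) y := by
    simpa using (BCCrit.goodAll_of_fiberRank_eq_zero (f := π) (F := L) 1 y hr).2
  obtain ⟨U, r, hyU, hφ, hn⟩ := BCCrit.exists_free_near0 (f := π) (F := L)
    (LocFree8.isFP_of_isFinLocFree L (Euler.isFinLocFree_of_isInvertible hL)) (Seesaw26.isFlatOver_of_isInvertible π hL) y hgood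
  have hz : r = n + 1 := by
    have := hn y hyU
    omega
  subst hz
  exact ⟨U, (specializes_iff_mem_closure.2 hyz).mem_open U.isOpen hyU, hφ⟩

end GrothLib.PlaneBlow28
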