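import Groth.Agent.Lib.PlaneBlow28.LineLift
import Groth.Agent.Lib.ExtPowX.Basic
import Groth.Agent.Lib.OmegaAb15.Basic

/-!
# Vanishing of the second cohomology on a blow-up of the plane
-/

universe u

set_option autoImplicit false
set_option linter.all false
set_option backward.isDefEq.respectTransparency false
set_option maxHeartbeats 1000000

open CategoryTheory CategoryTheory.Limits AlgebraicGeometry TopologicalSpace

noncomputable section

namespace GrothLib.PlaneBlow28

open GrothLib.Cube (Pic clsMod pull)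
open GrothLib.HodgeIndex (rep isInv_rep cls_rep chi euler_eq_chi chi_one isect cCl)

variable (k : Type u) [Field k] [IsAlgClosed k] {r : ℕ} (P : Fin r → ↥(CohB1.ProjSpace 2 k))
  (hZ : IsClosed (Set.range P)) {X : Scheme.{u}} [X.Over (Spec (CommRingCat.of k))] {σ : X ⟶ CohB1.ProjSpace 2 k}
  (hσk : σ ≫ CohB1.ProjSpace.toSpec 2 k = X ↘ (Spec (CommRingCat.of k)))
  (hσ : _root_.BlowUp.IsBlowUp σ (Scheme.IdealSheafData.vanishingIdeal ⟨Set.range P, hZ⟩))
  [IsIntegral X] [IsProper (X ↘ (Spec (CommRingCat.of k)))] [Smooth (X ↘ (Spec (CommRingCat.of k)))]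
  (hdim : topologicalKrullDim X = ((2 : ℕ) : WithBot ℕ∞))

include hσk hσ hdim in
/-- `h²(z) = 0` when `z · H ≥ -2`. -/
theorem h2_eq_zero {z : Pic X} (hz : -2 ≤ isect k (Hσ k σ) z) : h k 2 z = 0 := by
  obtain ⟨hs2, n, ι, hι, hιc⟩ := SurfRR28.exists_embedding k X hdim
  haveI := hs2
  haveI := hι
  obtain ⟨W, hW⟩ : ∃ W : X.Modules, ExtPow.IsExtPow 2 (Omega.sheaf (X ↘ (Spec (CommRingCat.of k)))) W :=
    let ⟨W, _, hW⟩ := ExtPowX.exists_extPow (OmegaAb15.isFinLocFree_omega (X ↘ (Spec (CommRingCat.of k)))) 2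
    ⟨W, hW⟩
  have hWi := SurfRR28.isInvertible_W k hdim hW
  have hH := H_canonical k P hZ hσk hσ hdim hW
  haveI : Nonempty X := inferInstance
  have e := SurfRR28.hh_serre k ι hιc W hW hWi (isInv_rep z) (isInv_rep (clsMod hWi * z⁻¹))
    (by rw [cls_rep, cls_rep]) (p := 2) le_rfl
  show Module.finrank k (Coh.HH X (rep z) 2) = 0
  rw [e]
  refine h0_eq_zero k σ hσk hdim ?_
  rw [HodgeIndex.isect_mul_right k hdim.le, HodgeIndex.isect_inv_right k hdim.le, hH]
  omega

end GrothLib.PlaneBlow28
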