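import Groth.Agent.Lib.PlaneBlow28.Push
import Groth.Agent.Lib.PlaneBlow28.H2
import Groth.Agent.Lib.BlowPt28.Euler

/-!
# The Euler characteristic of a blow-up of the plane in finitely many points
-/

universe u

set_option autoImplicit false
set_option linter.all false
set_option backward.isDefEq.respectTransparency false
set_option maxHeartbeats 1000000

open CategoryTheory CategoryTheory.Limits AlgebraicGeometry TopologicalSpace

noncomputable section

namespace GrothLib.PlaneBlow28

open GrothLib.Cube (Pic clsMod pull)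
open GrothLib.HodgeIndex (rep isInv_rep cls_rep chi euler_eq_chi chi_one isect cCl)

variable (k : Type u) [Field k] [IsAlgClosed k] {r : ℕ} (P : Fin r → ↥(CohB1.ProjSpace 2 k))
  (hPc : ∀ i, IsClosed ({P i} : Set ↥(CohB1.ProjSpace 2 k)))
  (hZ : IsClosed (Set.range P)) {X : Scheme.{u}} [X.Over (Spec (CommRingCat.of k))] {σ : X ⟶ CohB1.ProjSpace 2 k}
  (hσk : σ ≫ CohB1.ProjSpace.toSpec 2 k = X ↘ (Spec (CommRingCat.of k)))
  (hσ : _root_.BlowUp.IsBlowUp σ (Scheme.IdealSheafData.vanishingIdeal ⟨Set.range P, hZ⟩))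
  [IsIntegral X] [IsProper (X ↘ (Spec (CommRingCat.of k)))]

include hPc hσk hσ in
/-- `χ(O_X) = 1`. -/
theorem chi_one_eq : chi k (1 : Pic X) = 1 := by
  classical
  letI : (CohB1.ProjSpace 2 k).Over (Spec (CommRingCat.of k)) := ⟨CohB1.ProjSpace.toSpec 2 k⟩
  haveI : IsProper (CohB1.ProjSpace 2 k ↘ Spec (CommRingCat.of k)) := Chow.isProper_toSpec 2 k
  haveI : IsIntegral (CohB1.ProjSpace 2 k) := ProjDim.isIntegral_proj k 2
  haveI := Euler.isNoetherian_of_proper (X := CohB1.ProjSpace 2 k) k
  haveI := Euler.isNoetherian_of_proper (X := X) k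
  haveI : IsProper σ := GrothLib.BlowUpProper.isProper_of_isBlowUp hσ
  letI := RpushSupp20.hasInjectiveResolutions X
  have hreg := BlowPt28.regular_plane k
  have hcl : ∀ s ∈ Set.range P, IsClosed ({s} : Set (CohB1.ProjSpace 2 k)) := by
    rintro _ ⟨i, rfl⟩
    exact hPc i
  have hd : ∀ s ∈ Set.range P, ringKrullDim ((CohB1.ProjSpace 2 k).presheaf.stalk s) = 2 := fun s hs =>
    BlowPt28.dim_stalk_plane k (hcl s hs)
  let J := Scheme.IdealSheafData.vanishingIdeal (X := CohB1.ProjSpace 2 k) ⟨Set.range P, hZ⟩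
  have hgen : genericPoint (CohB1.ProjSpace 2 k) ∈ J.support.compl := fun h => by
    have h' : genericPoint (CohB1.ProjSpace 2 k) ∈ (J.support : Set _) := h
    rw [Scheme.IdealSheafData.coe_support_vanishingIdeal] at h'
    have h3 := hd _ h'
    rw [show ringKrullDim ((CohB1.ProjSpace 2 k).presheaf.stalk (genericPoint (CohB1.ProjSpace 2 k))) = 0 from
      ringKrullDim_eq_zero_of_field (CohB1.ProjSpace 2 k).functionField] at h3
    norm_num at h3
  have hiso : ∀ O : (CohB1.ProjSpace 2 k).Opens, IsIso (σ.app O) := fun O =>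
    RatSing29.isIso_app_of_birational σ (fun z => by
      haveI := hreg z
      exact RegLoc.isIntegrallyClosed_of_isRegularLocalRing _) J.support.compl ⟨_, hgen⟩
      (GrothLib.BlowUp.isIso_off_center hσ) O
  haveI : IsIso (ClSub.unitToPush σ) := GrothLib.ZClosure.isIso_of_basis _ fun w U hw =>
    ⟨U, hw, le_rfl, by
      haveI := hiso U
      exact ConcreteCategory.bijective_of_isIso (σ.app U)⟩
  have h : Curv2.euler k X (Coh.structureModule X) = _ :=
    Snapper.euler_eq_finsum_Rpush k hσk (Coh.structureModule X) (Kleiman.isCoh_O (X := X) k)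
  rw [finsum_eq_single _ 0 (fun i hi' => by
      rw [Snapper.euler_eq_zero_of_isZero k (isZero_Rpush_module_fin hreg hZ (Set.finite_range P) hcl hd hσ i
        (Nat.pos_of_ne_zero hi')), mul_zero]), pow_zero, one_mul,
    Euler.euler_of_iso k (((Scheme.Modules.pushforward σ).rightDerivedZeroIsoSelf).app _ ≪≫
      (asIso (ClSub.unitToPush σ)).symm)] at h
  have hp := BlowPt28.euler_plane k 0
  rw [euler_eq_chi k (CMReg.isInvertible_twist (n := 2) (k := k) 0),
    show clsMod (CMReg.isInvertible_twist (n := 2) (k := k) 0) = 1 from BlowPt28.tw_zero k 2, chi_one] at hp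
  rw [chi_one, h]
  linarith

end GrothLib.PlaneBlow28
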