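import Groth.Agent.Lib.PlaneBlow28.StrictGenus
import Groth.Agent.Lib.BlowPt28.Surface
import Groth.Agent.Lib.FGAInt26.AlgEquiv
import Groth.Agent.Lib.HypSq28.Seq
import Mathlib.RingTheory.Filtration

/-!
# Degrees on curves of the blow-up of a point of a surface
-/

universe u

set_option autoImplicit false
set_option linter.all false
set_option backward.isDefEq.respectTransparency false
set_option maxHeartbeats 1000000

open CategoryTheory CategoryTheory.Limits AlgebraicGeometry TopologicalSpace IsLocalRing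

noncomputable section

namespace GrothLib.PlaneBlow28

open GrothLib.Cube (Pic clsMod pull)
open GrothLib.HodgeIndex (rep isInv_rep cls_rep chi isect curveIdeal)
open GrothLib.Snapper (IsTop)
open GrothLib.CartierDescent (stalkIdeal)
open GrothLib.DivPart (gpt)

variable (k : Type u) [Field k]

/-- The degree on a curve is an intersection number with its ideal. -/
theorem curveDeg_eq_neg_isect {Y C : Scheme.{u}} [Y.Over (Spec (CommRingCat.of k))]
    [IsProper (Y ↘ Spec (CommRingCat.of k))] (i : C ⟶ Y) [IsClosedImmersion i] (hd : topologicalKrullDim C ≤ 1)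
    {M : Y.Modules} (hM : PicF.IsInvertible M) (hI : PicF.IsInvertible (ClSub.idealMod i.ker)) :
    Pic13.curveDeg k (i ≫ Y ↘ Spec (CommRingCat.of k)) ((Scheme.Modules.pullback i).obj M) =
      - isect k (clsMod hM) (clsMod hI) := by
  letI : C.Over (Spec (CommRingCat.of k)) := ⟨i ≫ Y ↘ Spec (CommRingCat.of k)⟩
  haveI : IsProper (C ↘ Spec (CommRingCat.of k)) := inferInstanceAs (IsProper (i ≫ Y ↘ Spec (CommRingCat.of k)))
  show Pic13.curveDeg k (C ↘ Spec (CommRingCat.of k)) _ = _
  rw [Kleiman.curveDeg_eq_euler k hd (Ample.isInvertible_pullback i hM),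
    HodgeIndex.euler_eq_chi k (Ample.isInvertible_pullback i hM), Cube.clsMod_pullback i hM, ← HodgeIndex.chi_one k]
  obtain ⟨-, -, -, -, -, -, s⟩ := HypSq28.seq k i rfl hI hd (clsMod hM)
  obtain ⟨-, -, -, -, -, -, t⟩ := HypSq28.seq k i rfl hI hd (1 : Pic Y)
  rw [map_one, one_mul] at t
  rw [isect]
  linarith

variable [IsAlgClosed k] {X X' : Scheme.{u}} [X.Over (Spec (CommRingCat.of k))]
  [IsProper (X ↘ Spec (CommRingCat.of k))] [Smooth (X ↘ Spec (CommRingCat.of k))] [IsIntegral X]
  (hdim : topologicalKrullDim X = ((2 : ℕ) : WithBot ℕ∞)) {x : X} (hx : IsClosed ({x} : Set X)) {b : X' ⟶ X}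
  (hb : _root_.BlowUp.IsBlowUp b (Scheme.IdealSheafData.vanishingIdeal ⟨{x}, hx⟩))

omit [IsAlgClosed k] [Smooth (X ↘ Spec (CommRingCat.of k))] in
/-- On a surface the curves are the closures of the points of codimension one. -/
theorem isTop_iff {P : Scheme.{u}} [IsIntegral P] (f : P ⟶ Spec (CommRingCat.of k)) [LocallyOfFiniteType f]
    (hP : topologicalKrullDim P = ((2 : ℕ) : WithBot ℕ∞)) (y : P) :
    IsTop 1 y ↔ ringKrullDim (P.presheaf.stalk y) = 1 := by
  have h := CodimExt27.ptDim_add_dim_stalk f (GrothLib.BlowPt28.components_of_irreducible (by exact_mod_cast hP)) y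
  show AffDom.ptDim y = ((1 : ℕ) : WithBot ℕ∞) ↔ _
  generalize AffDom.ptDim y = a at h ⊢
  generalize ringKrullDim (P.presheaf.stalk y) = c at h ⊢
  induction a using WithBot.recBotCoe with
  | bot => simp at h
  | coe a =>
    induction c using WithBot.recBotCoe with
    | bot => simp at h
    | coe c =>
      norm_cast at h ⊢
      replace h : a + c = 2 := WithBot.coe_injective h
      induction a using ENat.recTopCoe with
      | top => simp at h
      | coe a =>
        induction c using ENat.recTopCoe with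
        | top => simp at h
        | coe c => norm_cast at h ⊢; omega

include k hdim hb in
/-- The blow-up of a point of a surface is a surface. -/
theorem dim_blow : topologicalKrullDim X' = ((2 : ℕ) : WithBot ℕ∞) := by
  haveI := Euler.isNoetherian_of_proper (X := X) k
  have hd := dim_stalk_pt k hdim hx
  refine le_antisymm (GrothLib.BlowPt28.dim_le_two (HodgeIndex.regular_of_smooth k) hx hd hb hdim.le) ?_
  haveI : JacobsonSpace X := LocallyOfFiniteType.jacobsonSpace (X ↘ Spec (CommRingCat.of k))
  obtain ⟨y, hyU, hyc⟩ := nonempty_inter_closedPoints (X := X) (Z := ({x} : Set X)ᶜ)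
    ⟨genericPoint X, fun h => by
      rw [← show genericPoint X = x from h] at hd
      rw [show ringKrullDim (X.presheaf.stalk (genericPoint X)) = 0 from
        ringKrullDim_eq_zero_of_field X.functionField] at hd
      norm_num at hd⟩ hx.isOpen_compl.isLocallyClosed
  have hb' := GrothLib.BlowUp.isIso_off_center hb
  obtain ⟨w, hw⟩ := (b ∣_ (Scheme.IdealSheafData.vanishingIdeal ⟨{x}, hx⟩ : X.IdealSheafData).support.compl).surjective
    ⟨y, fun h => hyU ((mem_vanishing_iff hx y).1 h)⟩
  have hbw : b w.1 = y := (morphismRestrict_base_coe b _ w).symm.trans (congrArg Subtype.val hw)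
  haveI := GrothLib.ExcP1.isIso_stalkMap_off hx hb (show b w.1 ≠ x by rw [hbw]; exact hyU)
  have h5 := GrothLib.BlowPt28.dim_stalk_closed k (GrothLib.BlowPt28.components_of_irreducible hdim) hyc
  rw [← hbw] at h5
  refine le_of_eq_of_le ?_ (GrothLib.Ref1.ringKrullDim_stalk_le_topologicalKrullDim w.1)
  rw [← ringKrullDim_eq_of_ringEquiv (asIso (b.stalkMap w.1)).commRingCatIsoToRingEquiv, h5]
  rfl

omit [IsAlgClosed k] in
theorem gpt_curveIdeal {P : Scheme.{u}} (y : P) :
    ∃ h : IsIntegral (curveIdeal y).subscheme, (haveI := h; gpt (curveIdeal y) = y) ∧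
      ((curveIdeal y).support : Set P) = closure {y} := by
  have hint : IsIntegral (curveIdeal y).subscheme := Snapper.isIntegral_pt y
  have hs : ((curveIdeal y).support : Set P) = closure {y} :=
    (curveIdeal y).range_subschemeι.symm.trans (Snapper.range_pt y)
  refine ⟨hint, IsGenericPoint.eq (S := ((curveIdeal y).support : Set P)) ?_ ?_, hs⟩
  · show closure _ = _
    rw [gpt, QCoh.closure_singleton_eq_range, (curveIdeal y).range_subschemeι]
  · exact hs.symm

include k hdim hb in
/-- A curve on the blow-up is the exceptional curve or the strict transform of a curve. -/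
theorem curve_cases [X'.Over (Spec (CommRingCat.of k))] (hover : b ≫ X ↘ Spec (CommRingCat.of k) = X' ↘ Spec (CommRingCat.of k))
    (C' : X'.IdealSheafData) (hC'i : IsIntegral C'.subscheme)
    (hC'd : topologicalKrullDim (C'.support : Set X') = 1) :
    C' = _root_.BlowUp.exceptional b (Scheme.IdealSheafData.vanishingIdeal ⟨{x}, hx⟩) ∨
      ∃ (C : X.IdealSheafData) (hCi : IsIntegral C.subscheme),
        topologicalKrullDim (C.support : Set X) = 1 ∧ (haveI := hCi; haveI := hC'i; b (gpt C') = gpt C) := by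
  haveI := hC'i
  obtain ⟨hint, hnoeth, hbp, hreg⟩ := blow_setup k hdim hx hb
  haveI : IsProper (X' ↘ Spec (CommRingCat.of k)) := by rw [← hover]; infer_instance
  haveI := Euler.isNoetherian_of_proper (X := X) k
  have hdim' := dim_blow k hdim hx hb
  have hy : IsTop 1 (gpt C') := HodgeIndex.isTop_of_curve k hC'd
  have hd1 := (isTop_iff k (X' ↘ Spec (CommRingCat.of k)) hdim' (gpt C')).1 hy
  by_cases h : b (gpt C') = x
  · left
    haveI := HodgeIndex.regular_of_smooth k (X := X) x
    obtain ⟨e, -, -⟩ := GrothLib.ExcP1.exists_iso_point hx (dim_stalk_pt k hdim hx) hb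
    haveI : IsIntegral (_root_.BlowUp.exceptional b (Scheme.IdealSheafData.vanishingIdeal ⟨{x}, hx⟩)).subscheme := by
      haveI := GrothLib.ProjDim.isIntegral_proj (X.residueField x) 1
      haveI : Nonempty (_root_.BlowUp.exceptional b (Scheme.IdealSheafData.vanishingIdeal ⟨{x}, hx⟩)).subscheme :=
        ⟨e.hom (genericPoint (CohB1.ProjSpace 1 (X.residueField x)))⟩
      exact isIntegral_of_isOpenImmersion e.inv
    refine DivPart.eq_of_gpt_eq (DivPart.eq_gpt_of_coheight_le hb.1 ((mem_exceptional_iff hx _).2 h) ?_)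
    rw [ringKrullDim_stalk_eq_coheight] at hd1
    exact le_of_eq (WithBot.coe_injective hd1)
  · right
    haveI := GrothLib.ExcP1.isIso_stalkMap_off hx hb h
    have hd : ringKrullDim (X.presheaf.stalk (b (gpt C'))) = 1 :=
      (ringKrullDim_eq_of_ringEquiv (asIso (b.stalkMap (gpt C'))).commRingCatIsoToRingEquiv).trans hd1
    have htop := (isTop_iff k (X ↘ Spec (CommRingCat.of k)) hdim _).2 hd
    obtain ⟨hi, hg, hs⟩ := gpt_curveIdeal (b (gpt C'))
    refine ⟨curveIdeal (b (gpt C')), hi, ?_, hg.symm⟩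
    rw [hs]
    exact_mod_cast htop

include k hdim hb in
/-- Every curve has a strict transform. -/
theorem exists_strict [X'.Over (Spec (CommRingCat.of k))] (hover : b ≫ X ↘ Spec (CommRingCat.of k) = X' ↘ Spec (CommRingCat.of k))
    (C : X.IdealSheafData) (hCi : IsIntegral C.subscheme) (hCd : topologicalKrullDim (C.support : Set X) = 1) :
    ∃ (C' : X'.IdealSheafData) (hC'i : IsIntegral C'.subscheme),
      topologicalKrullDim (C'.support : Set X') = 1 ∧ (haveI := hCi; haveI := hC'i; b (gpt C') = gpt C) := by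
  haveI := hCi
  obtain ⟨hint, hnoeth, hbp, hreg⟩ := blow_setup k hdim hx hb
  haveI : IsProper (X' ↘ Spec (CommRingCat.of k)) := by rw [← hover]; infer_instance
  have hne := gpt_ne_point k hdim hx hCi hCd
  let U : X.Opens := (Scheme.IdealSheafData.vanishingIdeal ⟨{x}, hx⟩ : X.IdealSheafData).support.compl
  haveI : IsIso (b ∣_ U) := GrothLib.BlowUp.isIso_off_center hb
  obtain ⟨p, hp⟩ := (b ∣_ U).homeomorph.surjective ⟨gpt C, fun h => hne ((mem_vanishing_iff hx _).1 h)⟩
  have hbp' : b p.1 = gpt C := (morphismRestrict_base_coe b _ p).symm.trans (congrArg Subtype.val hp)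
  haveI := GrothLib.ExcP1.isIso_stalkMap_off hx hb (show b p.1 ≠ x by rw [hbp']; exact hne)
  have hd : ringKrullDim (X'.presheaf.stalk p.1) = 1 := by
    rw [← ringKrullDim_eq_of_ringEquiv (asIso (b.stalkMap p.1)).commRingCatIsoToRingEquiv, hbp']
    exact dim_stalk_gpt k hdim hCi hCd
  have htop := (isTop_iff k (X' ↘ Spec (CommRingCat.of k)) (dim_blow k hdim hx hb) _).2 hd
  obtain ⟨hi, hg, hs⟩ := gpt_curveIdeal p.1
  refine ⟨curveIdeal p.1, hi, ?_, ?_⟩
  · rw [hs]
    exact_mod_cast htop
  · rw [hg]
    exact hbp'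

include k hdim hx in
/-- The multiplicity of a curve at a point. -/
theorem exists_mult (C : X.IdealSheafData) (hCi : IsIntegral C.subscheme)
    (hCd : topologicalKrullDim (C.support : Set X) = 1) :
    ∃ m : ℕ, C ≤ Scheme.IdealSheafData.vanishingIdeal ⟨{x}, hx⟩ ^ m ∧
      ¬ C ≤ Scheme.IdealSheafData.vanishingIdeal ⟨{x}, hx⟩ ^ (m + 1) := by
  haveI := hCi
  haveI := Euler.isNoetherian_of_proper (X := X) k
  haveI := HodgeIndex.regular_of_smooth k (X := X) x
  haveI := GrothLib.CMFree.isDomain_of_isRegularLocalRing (X.presheaf.stalk x)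
  set J := Scheme.IdealSheafData.vanishingIdeal (⟨{x}, hx⟩ : Closeds X)
  have hC := HodgeIndex.isEffCartier_curve hdim (HodgeIndex.regular_of_smooth k) C (HodgeIndex.isTop_of_curve k hCd)
  classical
  have hex : ∃ m, ¬ C ≤ J ^ (m + 1) := by
    by_contra h
    push Not at h
    obtain ⟨t, ht, ht'⟩ := CartierDescent.exists_stalk_generator hC x
    have hb0 := Ideal.iInf_pow_eq_bot_of_isLocalRing (maximalIdeal (X.presheaf.stalk x)) (maximalIdeal.isMaximal _).ne_top
    refine nonZeroDivisors.ne_zero ht (Ideal.mem_bot.1 (hb0 ▸ Submodule.mem_iInf _ |>.2 fun n => ?_))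
    refine Ideal.pow_le_pow_right n.le_succ ?_
    have h1 := DivPart.stalkIdeal_mono (h n) x
    rw [show stalkIdeal (J ^ (n + 1)) x = DivPart.stalkHom x (J ^ (n + 1)) from rfl, map_pow,
      show DivPart.stalkHom x J = stalkIdeal J x from rfl, ExcP1.stalkIdeal_vanishingIdeal hx, ht'] at h1
    exact h1 (Ideal.mem_span_singleton_self t)
  refine ⟨Nat.find hex, ?_, Nat.find_spec hex⟩
  rcases Nat.eq_zero_or_pos (Nat.find hex) with h0 | h0
  · rw [h0, pow_zero, Scheme.IdealSheafData.one_eq_top]
    exact le_top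
  · have := Nat.find_min hex (show Nat.find hex - 1 < Nat.find hex by omega)
    rw [not_not, Nat.sub_add_cancel h0] at this
    exact this

include hx in
omit [IsAlgClosed k] [Smooth (X ↘ Spec (CommRingCat.of k))] [IsIntegral X] [IsProper (X ↘ Spec (CommRingCat.of k))] in
/-- Containment in a power of the ideal of a closed point is read on the local ring there. -/
theorem le_pow_iff (C : X.IdealSheafData) (n : ℕ) :
    C ≤ Scheme.IdealSheafData.vanishingIdeal ⟨{x}, hx⟩ ^ n ↔
      ∀ (V : X.affineOpens) (hxV : x ∈ (V : X.Opens)),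
        (C.ideal V).map (X.presheaf.germ V x hxV).hom ≤ (maximalIdeal (X.presheaf.stalk x)) ^ n := by
  set J := Scheme.IdealSheafData.vanishingIdeal (⟨{x}, hx⟩ : Closeds X)
  have hp : ∀ y, stalkIdeal (J ^ n) y = stalkIdeal J y ^ n := fun y => by
    rw [show stalkIdeal (J ^ n) y = DivPart.stalkHom y (J ^ n) from rfl, map_pow]
    rfl
  refine ⟨fun h V hxV => ?_, fun h => DivPart.le_of_stalkIdeal fun y => ?_⟩
  · rw [← CartierDescent.stalkIdeal_eq C V hxV, ← ExcP1.stalkIdeal_vanishingIdeal hx, ← hp]
    exact DivPart.stalkIdeal_mono h x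
  · rw [hp]
    by_cases hy : y = x
    · subst hy
      obtain ⟨V, hV, -⟩ := GrothLib.BlowUp.exists_affine_mem_le (W := (⊤ : X.Opens)) (x := y) trivial
      rw [ExcP1.stalkIdeal_vanishingIdeal hx, CartierDescent.stalkIdeal_eq C V hV]
      exact h V hV
    · rw [(CartierDescent.stalkIdeal_eq_top_iff J y).2 fun h => hy ((mem_vanishing_iff hx y).1 h), Ideal.top_pow]
      exact le_top

end GrothLib.PlaneBlow28
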