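import Groth.Agent.Lib.ArSurf29.Codim1
import Groth.Agent.Lib.ArSurf29.Inter
import Groth.Agent.Lib.RelDiv.Sum
import Groth.Agent.Lib.RatSing29.StalkRational
import Groth.Agent.Lib.PlaneBlow28.StrictDeg
import Groth.Agent.Lib.Contract29.ContractInter
import Groth.Agent.Lib.HodgeIndex.Pullback
import Mathlib.RingTheory.DiscreteValuationRing.TFAE

/-!
# The total transform of a divisor is the strict transform plus contracted curves
-/

universe u

set_option autoImplicit false
set_option linter.all false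
set_option backward.isDefEq.respectTransparency false
set_option maxHeartbeats 1000000

open CategoryTheory CategoryTheory.Limits AlgebraicGeometry TopologicalSpace IsLocalRing

noncomputable section

namespace GrothLib.PlaneBlow28

open GrothLib.Cube (Pic clsMod pull)
open GrothLib.HodgeIndex (rep isInv_rep cls_rep chi isect curveIdeal)
open GrothLib.Snapper (IsTop)
open GrothLib.CartierDescent (stalkIdeal stalkIdeal_eq stalkIdeal_eq_top_iff exists_stalk_generator)
open GrothLib.DivPart (gpt stalkHom)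

section Cancel

variable {X : Scheme.{u}}

theorem stalkIdeal_mul' (I J : X.IdealSheafData) (y : X) :
    stalkIdeal (I * J) y = stalkIdeal I y * stalkIdeal J y := map_mul (stalkHom y) I J

theorem stalk_cancel {A B : X.IdealSheafData} (hA : _root_.BlowUp.IsEffCartierIdeal A)
    (hB : _root_.BlowUp.IsEffCartierIdeal B) {y : X}
    (h : stalkIdeal A y * stalkIdeal B y = stalkIdeal A y) : stalkIdeal B y = ⊤ := by
  obtain ⟨a, ha, ea⟩ := exists_stalk_generator hA y
  obtain ⟨b, hb, eb⟩ := exists_stalk_generator hB y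
  rw [ea, eb, Ideal.span_singleton_mul_span_singleton] at h
  obtain ⟨c, hc⟩ := Ideal.mem_span_singleton.1 (h.ge (Ideal.mem_span_singleton_self a))
  rw [eb, Ideal.span_singleton_eq_top]
  refine IsUnit.of_mul_eq_one c ((mul_cancel_left_mem_nonZeroDivisors ha).1 ?_)
  linear_combination -hc

theorem stalk_ne_bot {A : X.IdealSheafData} (hA : _root_.BlowUp.IsEffCartierIdeal A) (y : X) :
    stalkIdeal A y ≠ ⊥ := by
  obtain ⟨a, ha, ea⟩ := exists_stalk_generator hA y
  rw [ea, Ne, Ideal.span_singleton_eq_bot]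
  exact nonZeroDivisors.ne_zero ha

end Cancel

section Generic

theorem genericPoint_map {X Y : Scheme.{u}} [IsIntegral X] [IsIntegral Y] (φ : Y ⟶ X) (U : X.Opens)
    [IsIso (φ ∣_ U)] {v : X} (hv : v ∈ U) : φ (genericPoint Y) = genericPoint X := by
  have hUne : (U : Set X).Nonempty := ⟨v, hv⟩
  have hηU : genericPoint X ∈ U :=
    ((genericPoint_spec X).mem_open_set_iff U.2).2 ((Set.univ_inter _).symm ▸ hUne)
  obtain ⟨q, hq⟩ := (φ ∣_ U).homeomorph.surjective ⟨genericPoint X, hηU⟩
  have hq' : φ q.1 = genericPoint X := (morphismRestrict_base_coe φ _ q).symm.trans (congrArg Subtype.val hq)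
  have h1 : φ (genericPoint Y) ⤳ φ q.1 :=
    ((genericPoint_spec Y).specializes (Set.mem_univ _)).map φ.continuous
  rw [hq'] at h1
  exact (h1.antisymm ((genericPoint_spec X).specializes (Set.mem_univ _))).eq

end Generic

section Decomp

variable {X Y : Scheme.{u}} [IsIntegral X] [IsIntegral Y] [IsLocallyNoetherian Y]
  (hreg : ∀ y : Y, IsRegularLocalRing (Y.presheaf.stalk y)) (φ : Y ⟶ X)
  (hη : φ (genericPoint Y) = genericPoint X) (U : X.Opens) {s : ℕ} (μ : Fin s → Y.IdealSheafData)
  [∀ j, IsIntegral (μ j).subscheme] (hμC : ∀ j, _root_.BlowUp.IsEffCartierIdeal (μ j))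
  (hμinj : Function.Injective μ) (hgpt : ∀ j, ringKrullDim (Y.presheaf.stalk (gpt (μ j))) = 1)
  (hcodim : ∀ y : Y, ringKrullDim (Y.presheaf.stalk y) = 1 → φ y ∈ U ∨ ∃ j, y = gpt (μ j))

include hreg hη hμC hμinj hgpt hcodim in
theorem exists_decomp {D : X.IdealSheafData} (hD : _root_.BlowUp.IsEffCartierIdeal D) {Dt : Y.IdealSheafData}
    (hDt : _root_.BlowUp.IsEffCartierIdeal Dt) (hDtexc : ∀ j, gpt (μ j) ∉ Dt.support)
    (hDtU : ∀ y, φ y ∈ U → stalkIdeal Dt y = stalkIdeal (D.comap φ) y) :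
    ∃ γ : Fin s → ℕ, D.comap φ = Dt * ∏ j : Fin s, μ j ^ γ j := by
  have hN : Pi1.IsNormalScheme Y := ArSurf29.isNormalScheme_of_regular hreg
  have hJ := RatSing29.isEffCartierIdeal_comap_of_generic φ hη hD
  have hle : D.comap φ ≤ Dt := by
    refine ArSurf29.le_of_codim_one hN hJ hDt fun y hy => ?_
    rcases hcodim y hy with h | ⟨j, rfl⟩
    · rw [hDtU y h]
    · rw [(stalkIdeal_eq_top_iff Dt _).2 (hDtexc j)]
      exact le_top
  obtain ⟨R, hR, hJR⟩ := RelDiv.exists_eq_mul hDt hJ hle
  -- the orders of the residual divisor at the contracted curves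
  have hpow : ∀ j, ∃ n : ℕ, stalkIdeal R (gpt (μ j)) = maximalIdeal (Y.presheaf.stalk (gpt (μ j))) ^ n := fun j => by
    haveI := hreg (gpt (μ j))
    haveI := CMFree.isDomain_of_isRegularLocalRing (Y.presheaf.stalk (gpt (μ j)))
    refine exists_maximalIdeal_pow_eq_of_principal _ ?_ _ (stalk_ne_bot hR _)
    obtain ⟨t, -, ht⟩ := exists_stalk_generator (hμC j) (gpt (μ j))
    rw [← DivPart.stalkIdeal_gpt, ht]
    exact ⟨t, rfl⟩
  choose γ hγ using hpow
  have hP : _root_.BlowUp.IsEffCartierIdeal (∏ j : Fin s, μ j ^ γ j) := by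
    obtain ⟨h, -⟩ := ArSurf29.cls_idealMod_prod Finset.univ (fun j => μ j ^ γ j)
      fun j => (ArSurf29.cls_idealMod_pow (hμC j) (γ j)).choose
    exact IdealModSec.isEffCartier_of_isInvertible h
  refine ⟨γ, ?_⟩
  rw [hJR]
  congr 1
  refine ArSurf29.eq_of_codim_one hN hR hP fun y hy => ?_
  have hst : stalkIdeal (∏ j : Fin s, μ j ^ γ j) y = ∏ j : Fin s, stalkIdeal (μ j) y ^ γ j := by
    show stalkHom y _ = _
    rw [map_prod]
    exact Finset.prod_congr rfl fun j _ => map_pow (stalkHom y) _ _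
  have hin : ∀ j, y ∈ (μ j).support → y = gpt (μ j) := fun j hj => by
    refine DivPart.eq_gpt_of_coheight_le (hμC j) hj (le_of_eq ?_)
    rw [ringKrullDim_stalk_eq_coheight] at hy
    exact WithBot.coe_injective hy
  by_cases hex : ∃ i, y = gpt (μ i)
  · obtain ⟨i, rfl⟩ := hex
    rw [hst, Finset.prod_eq_single i ?_ (fun h => absurd (Finset.mem_univ i) h), hγ i, DivPart.stalkIdeal_gpt]
    intro j _ hji
    rw [(stalkIdeal_eq_top_iff (μ j) _).2 fun h => hji (hμinj (DivPart.eq_of_gpt_eq (hin j h).symm)),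
      ← Ideal.one_eq_top, one_pow]
  · have hU : φ y ∈ U := (hcodim y hy).resolve_right hex
    have h2 : stalkIdeal R y = ⊤ := by
      refine stalk_cancel hDt hR ?_
      rw [← stalkIdeal_mul', ← hJR, hDtU y hU]
    rw [hst, h2, Finset.prod_eq_one, Ideal.one_eq_top]
    intro j _
    rw [(stalkIdeal_eq_top_iff (μ j) y).2 fun h => hex ⟨j, hin j h⟩, ← Ideal.one_eq_top, one_pow]

end Decomp

section Isect

variable (k : Type u) [Field k] {Y : Scheme.{u}} [Y.Over (Spec (CommRingCat.of k))]
  [IsProper (Y ↘ Spec (CommRingCat.of k))]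

theorem isect_prod_left (hd : topologicalKrullDim Y ≤ ((2 : ℕ) : WithBot ℕ∞)) {ι : Type*} (S : Finset ι)
    (x : ι → Pic Y) (z : Pic Y) : isect k (∏ i ∈ S, x i) z = ∑ i ∈ S, isect k (x i) z := by
  classical
  induction S using Finset.induction with
  | empty => rw [Finset.prod_empty, Finset.sum_empty, HodgeIndex.isect_one_left k hd]
  | insert j S hj ih => rw [Finset.prod_insert hj, Finset.sum_insert hj, HodgeIndex.isect_mul_left k hd, ih]

variable {X : Scheme.{u}} [X.Over (Spec (CommRingCat.of k))] [IsProper (X ↘ Spec (CommRingCat.of k))]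
  [IsIntegral Y] [Smooth (Y ↘ Spec (CommRingCat.of k))]

/-- Classes pulled back from the base are orthogonal to contracted curves. -/
theorem isect_pull_contracted (hdim : topologicalKrullDim Y = ((2 : ℕ) : WithBot ℕ∞)) (φ : Y ⟶ X)
    (hφ : φ ≫ X ↘ Spec (CommRingCat.of k) = Y ↘ Spec (CommRingCat.of k)) {C : Y.IdealSheafData}
    (hCi : IsIntegral C.subscheme) (hCd : topologicalKrullDim (C.support : Set Y) = 1)
    {p : X} (hp : φ '' (C.support : Set Y) = {p}) (a : Pic X) (hC : PicF.IsInvertible (ClSub.idealMod C)) :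
    isect k (pull φ a) (clsMod hC) = 0 := by
  obtain ⟨y, hy, -, hyC, h⟩ := HodgeIndex.isect_cCl_eq_deg k hdim hCi hCd (pull φ a)
  haveI : IsProper φ := by
    haveI : IsProper (φ ≫ X ↘ Spec (CommRingCat.of k)) := by rw [hφ]; infer_instance
    exact IsProper.of_comp φ (X ↘ Spec (CommRingCat.of k))
  have hfy : φ y = p := hp.le ⟨y, hyC, rfl⟩
  have hcl : IsClosed ({φ y} : Set X) := by
    rw [hfy, ← hp]
    exact φ.isClosedMap _ C.support.isClosed
  have h0 := (HodgeIndex.deg_pullback k φ hφ (isInv_rep a) hy).1 (HodgeIndex.not_isTop_of_isClosed hcl)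
  rw [Cube.clsMod_pullback φ (isInv_rep a), cls_rep] at h0
  rw [h0] at h
  have h' : isect k (pull φ a) (HodgeIndex.cCl C) = 0 := by exact_mod_cast h
  rw [HodgeIndex.cCl, dif_pos hC, HodgeIndex.isect_inv_right k (le_of_eq hdim)] at h'
  linarith

end Isect

end GrothLib.PlaneBlow28
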