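import Groth.Agent.Lib.BlowPt28.Pull
import Groth.Agent.Lib.CurveMult.RelNef
import Groth.Agent.Lib.HodgeIndex.Deg

/-!
# A surface over a curve: direct images of line bundles with `R¹ = 0`
-/

universe u

set_option autoImplicit false
set_option linter.all false
set_option backward.isDefEq.respectTransparency false
set_option maxHeartbeats 1000000

open CategoryTheory CategoryTheory.Limits AlgebraicGeometry TopologicalSpace

noncomputable section

namespace GrothLib.PlaneBlow28

/-- A subspace of a fibre of a surjective closed map from an irreducible surface onto a space with more than one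
point has dimension at most one. -/
theorem krullDim_le_one_of_fibre {X Y T : Type*} [TopologicalSpace X] [TopologicalSpace Y] [TopologicalSpace T]
    [IrreducibleSpace X] {f : X → Y} (hf : Continuous f) (hfc : IsClosedMap f) (hfs : Function.Surjective f)
    (hX : topologicalKrullDim X ≤ ((2 : ℕ) : WithBot ℕ∞)) {q : Y} (hq : IsClosed ({q} : Set Y))
    (hsp : ∀ z : Y, ¬ IsClosed ({z} : Set Y) → q ∈ closure {z}) (hne : ∀ z : Y, ∃ z', z' ≠ z)
    {g : T → X} (hg : Topology.IsEmbedding g) {y : Y} (hy : ∀ t, f (g t) = y) :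
    topologicalKrullDim T ≤ ((1 : ℕ) : WithBot ℕ∞) := by
  by_contra hlt
  have h2 : ((2 : ℕ) : WithBot ℕ∞) ≤ topologicalKrullDim T := by
    rw [topologicalKrullDim] at hlt ⊢
    rw [Order.le_krullDim_iff]
    by_contra hno
    refine hlt (iSup_le fun l => ?_)
    have hl : l.length ≤ 1 := by
      by_contra hl
      exact hno ⟨l.take ⟨2, by omega⟩, rfl⟩
    exact_mod_cast hl
  rw [topologicalKrullDim, Order.le_krullDim_iff] at h2
  obtain ⟨l, hl⟩ := h2
  let W := l.map (IrreducibleCloseds.map g hg.continuous) (IrreducibleCloseds.map_strictMono_of_isInducing hg.isInducing)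
  have hWh : (W.head : Set X) = closure (g '' (l.head : Set T)) := rfl
  have hWl : W.length = 2 := hl
  have hX' : ∀ V : LTSeries (IrreducibleCloseds X), V.length ≠ 3 := fun V hV => by
    have h3 : ((3 : ℕ) : WithBot ℕ∞) ≤ topologicalKrullDim X := Order.le_krullDim_iff.2 ⟨V, hV⟩
    have := h3.trans hX
    norm_cast at this
  by_cases hyc : IsClosed ({y} : Set Y)
  · let top : IrreducibleCloseds X := ⟨Set.univ, IrreducibleSpace.isIrreducible_univ X, isClosed_univ⟩
    obtain ⟨z, hz⟩ := hne y
    obtain ⟨x, hx⟩ := hfs z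
    have hsub : (W.last : Set X) ⊆ f ⁻¹' {y} := by
      show closure (g '' (l.last : Set T)) ⊆ _
      refine (hyc.preimage hf).closure_subset_iff.2 ?_
      rintro _ ⟨t, -, rfl⟩
      exact hy t
    have hlt' : W.last < top := lt_of_le_of_ne (fun _ _ => trivial) fun e => hz (by
      have h1 : x ∈ (W.last : Set X) := by rw [e]; trivial
      exact hx.symm.trans (hsub h1))
    refine hX' (W.snoc top hlt') ?_
    rw [RelSeries.snoc_length, hWl]
  · obtain ⟨t, ht⟩ := l.head.2.1
    have hh : g t ∈ (W.head : Set X) := subset_closure ⟨t, ht, rfl⟩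
    have hcl : IsClosed (f '' (W.head : Set X)) := hfc _ W.head.3
    have hyi : y ∈ f '' (W.head : Set X) := ⟨g t, hh, hy t⟩
    obtain ⟨w, hw, hwq⟩ : q ∈ f '' (W.head : Set X) :=
      hcl.closure_subset_iff.2 (Set.singleton_subset_iff.2 hyi) (hsp y hyc)
    let bot : IrreducibleCloseds X := ⟨closure {w}, isIrreducible_singleton.closure, isClosed_closure⟩
    have hle : bot ≤ W.head := W.head.3.closure_subset_iff.2 (Set.singleton_subset_iff.2 hw)
    have hlt' : bot < W.head := lt_of_le_of_ne hle fun e => hyc (by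
      have h1 : g t ∈ closure {w} := by
        have : g t ∈ (bot : Set X) := by rw [e]; exact hh
        exact this
      have h2 : closure {w} ⊆ f ⁻¹' {q} :=
        (hq.preimage hf).closure_subset_iff.2 (Set.singleton_subset_iff.2 hwq)
      rw [show y = q from (hy t).symm.trans (h2 h1)]
      exact hq)
    refine hX' (W.cons bot hlt') ?_
    rw [RelSeries.cons_length, hWl]

variable {X C : Scheme.{u}} [IsIntegral X] [IsIntegral C] [IsLocallyNoetherian C]
  (π : X ⟶ C) [IsProper π] (hdim : topologicalKrullDim X ≤ ((2 : ℕ) : WithBot ℕ∞)) (hs : Function.Surjective π)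
  {q : C} (hq : IsClosed ({q} : Set C)) (hsp : ∀ z : C, ¬ IsClosed ({z} : Set C) → q ∈ closure {z})
  (hne : ∀ z : C, ∃ z', z' ≠ z)

include hdim hs hq hsp hne in
/-- A line bundle with `R¹ = 0` is acyclic over the affine opens of the curve. -/
theorem acyclic_of_R1 [HasInjectiveResolutions X.Modules] {G : X.Modules} (hG : Coh.IsCoh G)
    (h1 : IsZero ((Coh.Rpush π 1).obj G)) : Cohom.AcyclicOn π.base C.affineOpens (Coh.toAb G) := fun W hW n => by
  haveI : IsLocallyNoetherian X := LocallyOfFiniteType.isLocallyNoetherian π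
  haveI : G.IsQuasicoherent := hG.1
  refine BlowPt28.subsingleton_ext_restrict G (π ⁻¹ᵁ W) (n + 1) ?_
  rcases Nat.eq_zero_or_pos n with rfl | hn
  · obtain ⟨e, -⟩ := BCCoh.exists_Rpush_equiv (f := π) (V := W) (hV := hW) (M := G) 1
    refine @Equiv.subsingleton _ _ e.toEquiv ?_
    refine subsingleton_of_forall_eq 0 fun t => ?_
    have h := (IsZero.iff_id_eq_zero _).1 h1
    simpa using ConcreteCategory.congr_hom (congrArg (fun φ : _ ⟶ _ => Scheme.Modules.Hom.app φ W) h) t
  · let U : X.Opens := π ⁻¹ᵁ W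
    letI : (U : Scheme.{u}).Over (Spec (CommRingCat.of Γ(C, W))) := ⟨BCCoh.affBase π hW⟩
    haveI : IsNoetherianRing Γ(C, W) := IsLocallyNoetherian.component_noetherian ⟨W, hW⟩
    haveI : IsProper ((U : Scheme.{u}) ↘ Spec (CommRingCat.of Γ(C, W))) :=
      inferInstanceAs (IsProper ((π ∣_ W) ≫ hW.isoSpec.hom))
    refine CurveMult.RelNef.subsingleton_HH_of_fibre_dim_le (A := Γ(C, W)) (fun y => ?_)
      (Cohom.isCoh_restrict G hG U.ι) (by omega)
    let f := (U : Scheme.{u}) ↘ Spec (CommRingCat.of Γ(C, W))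
    refine krullDim_le_one_of_fibre π.continuous π.isClosedMap hs hdim hq hsp hne
      (U.ι.isOpenEmbedding.isEmbedding.comp (f.fiberι y).isEmbedding) (y := hW.fromSpec y) fun t => ?_
    show π (U.ι (f.fiberι y t)) = hW.fromSpec y
    have h2 : f (f.fiberι y t) = y := by
      have : (f.fiberι y t) ∈ Set.range (f.fiberι y) := Set.mem_range_self _
      rw [Scheme.Hom.range_fiberι] at this
      exact this
    rw [← Scheme.Hom.comp_apply, ← morphismRestrict_ι, Scheme.Hom.comp_apply]
    generalize f.fiberι y t = w at h2 ⊢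
    have h5 : hW.isoSpec.hom ((π ∣_ W) w) = y := (Scheme.Hom.comp_apply _ _ w).symm.trans h2
    rw [← h5, ← Scheme.Hom.comp_apply hW.isoSpec.hom, IsAffineOpen.isoSpec_hom_fromSpec]

end GrothLib.PlaneBlow28
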