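import Groth.Agent.Lib.BlowPt28.PlaneLine
import Groth.Agent.Lib.LinProj.Cover

/-!
# A line avoiding finitely many points
-/

universe u

set_option autoImplicit false
set_option linter.all false
set_option backward.isDefEq.respectTransparency false
set_option maxHeartbeats 1000000

open CategoryTheory CategoryTheory.Limits AlgebraicGeometry TopologicalSpace MvPolynomial HomogeneousLocalization

noncomputable section

namespace GrothLib.PlaneBlow28

open GrothLib.BlowPt28 (euler_plane)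

open GrothLib.Cube (Pic clsMod pull)
open GrothLib.HodgeIndex (rep isInv_rep cls_rep chi euler_eq_chi chi_one isect)

variable (k : Type u) [Field k] [IsAlgClosed k]

/-- A line avoiding a finite set. -/
theorem exists_line_avoid [Infinite k] (T : Set (CohB1.ProjSpace 2 k)) (hT : T.Finite) :
    ∃ (j : CohB1.ProjSpace 1 k ⟶ CohB1.ProjSpace 2 k) (_ : IsClosedImmersion j)
      (hI : PicF.IsInvertible (ClSub.idealMod j.ker)),
      (∀ z, j z ∉ T) ∧
      j ≫ CohB1.ProjSpace.toSpec 2 k = CohB1.ProjSpace.toSpec 1 k ∧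
      pull j (clsMod (CMReg.isInvertible_twist (n := 2) (k := k) 1)) = clsMod (CMReg.isInvertible_twist (n := 1) (k := k) 1) ∧
      clsMod hI = clsMod (CMReg.isInvertible_twist (n := 2) (k := k) (-1)) := by
  classical
  haveI hi2' : IsIntegral (CohB1.ProjSpace 2 k) := ProjDim.isIntegral_proj k 2
  obtain ⟨l, hl, hlT⟩ := LinProj.exists_linear_avoid (n := 2) (insert (genericPoint (CohB1.ProjSpace 2 k)) T) (hT.insert _)
  have hl0 : l ≠ 0 := fun h => hlT (Set.mem_insert _ _) (by rw [h]; exact Ideal.zero_mem _)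
  obtain ⟨ψ, hψs, hker, hψC⟩ := Groth.Agent.S7676.exists_projection k 1 l hl hl0
  let A := CohB1.polyGrading 2 k
  let B := CohB1.polyGrading 1 k
  have hψ := Groth.Agent.S7676.irrelevant_le_map A B ψ hψs
  let j : CohB1.ProjSpace 1 k ⟶ CohB1.ProjSpace 2 k := Proj.map ψ hψ
  haveI hjc : IsClosedImmersion j := GradedAlg.isClosedImmersion_map ψ hψ hψs
  have hav : ∀ z, j z ∉ T := fun z hz => hlT (Set.mem_insert_of_mem _ hz) (by
    show ψ l ∈ z.asHomogeneousIdeal
    rw [show ψ l = 0 from RingHom.mem_ker.1 (by rw [hker]; exact Ideal.mem_span_singleton_self l)]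
    exact Ideal.zero_mem _)
  have hover : j ≫ CohB1.ProjSpace.toSpec 2 k = CohB1.ProjSpace.toSpec 1 k := by
    show Proj.map ψ hψ ≫ Proj.toSpecZero A ≫ _ = Proj.toSpecZero _ ≫ _
    rw [← Category.assoc, RelProjK.map_toSpecZero, Category.assoc, ← Spec.map_comp]
    congr 2
    refine CommRingCat.hom_ext (RingHom.ext fun b => Subtype.ext ?_)
    show ψ (C b) = C b
    exact hψC b
  obtain ⟨e⟩ := Hyperplane.nonempty_pullback_twist_one ψ hψ
    (fun i : ULift.{u} (Fin (2 + 1)) => X i.down) (fun i => Ample.ProjMap.X_mem i.down) (CMReg.cc 2 k).cover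
  have hT1 := CMReg.isInvertible_twist (n := 2) (k := k) 1
  have hU1 := CMReg.isInvertible_twist (n := 1) (k := k) 1
  have hpull : pull j (clsMod hT1) = clsMod hU1 := by
    rw [← Cube.clsMod_pullback j hT1, Cube.clsMod_eq_iff]
    exact ⟨e⟩
  -- the class of the line
  haveI hi2 : IsIntegral (CohB1.ProjSpace 2 k) := ProjDim.isIntegral_proj k 2
  haveI : IsIntegral (CohB1.ProjSpace 1 k) := ProjDim.isIntegral_proj k 1
  letI : (CohB1.ProjSpace 2 k).Over (Spec (CommRingCat.of k)) := ⟨CohB1.ProjSpace.toSpec 2 k⟩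
  letI : (CohB1.ProjSpace 1 k).Over (Spec (CommRingCat.of k)) := ⟨CohB1.ProjSpace.toSpec 1 k⟩
  haveI : Smooth (CohB1.ProjSpace 2 k ↘ Spec (CommRingCat.of k)) := GrothLib.CurveMult.smooth_toSpec 2 k
  haveI : IsProper (CohB1.ProjSpace 2 k ↘ Spec (CommRingCat.of k)) := Chow.isProper_toSpec 2 k
  haveI : IsProper (CohB1.ProjSpace 1 k ↘ Spec (CommRingCat.of k)) := Chow.isProper_toSpec 1 k
  haveI := Euler.isNoetherian_of_proper (X := CohB1.ProjSpace 2 k) k
  haveI : IsIso j.toImage := inferInstance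
  haveI : IsIntegral j.ker.subscheme := by
    haveI : Nonempty j.ker.subscheme := ⟨j.toImage (genericPoint (CohB1.ProjSpace 1 k))⟩
    exact isIntegral_of_isOpenImmersion (inv j.toImage : j.ker.subscheme ⟶ _)
  have hd1 : topologicalKrullDim (j.ker.support : Set (CohB1.ProjSpace 2 k)) = 1 := by
    rw [← Scheme.IdealSheafData.range_subschemeι, ← IsHomeomorph.topologicalKrullDim_eq _
      (j.ker.subschemeι.isClosedEmbedding.isEmbedding.toHomeomorph).isHomeomorph,
      ← IsHomeomorph.topologicalKrullDim_eq _ (asIso j.toImage).schemeIsoToHomeo.isHomeomorph]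
    exact CurveMult.P1Split.dim_P1 k
  have hd2 : topologicalKrullDim (CohB1.ProjSpace 2 k) = ((2 : ℕ) : WithBot ℕ∞) := by
    exact_mod_cast Groth.Agent.S10829.result k 2
  have hI := IdealModSec.isInvertible_of_isEffCartier (HodgeIndex.isEffCartier_curve hd2
    (HodgeIndex.regular_of_smooth k) j.ker (HodgeIndex.isTop_of_curve k hd1))
  refine ⟨j, hjc, hI, hav, hover, hpull, ?_⟩
  obtain ⟨m, ⟨w⟩⟩ := ProjPic26.exists_iso_twist (R := k) (n := 2) hI
  have hcm : clsMod hI = clsMod (CMReg.isInvertible_twist (n := 2) (k := k) m) := (Cube.clsMod_eq_iff _ _).2 ⟨w⟩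
  have hadd : ∀ s t : ℤ, clsMod (CMReg.isInvertible_twist (n := 2) (k := k) s) *
      clsMod (CMReg.isInvertible_twist (n := 2) (k := k) t) =
      clsMod (CMReg.isInvertible_twist (n := 2) (k := k) (s + t)) := fun s t => by
    rw [← Cube.clsMod_tensorMod]
    exact (Cube.clsMod_eq_iff _ _).2 (CMReg.nonempty_twist_add (n := 2) (k := k) rfl)
  have hone : clsMod (CMReg.isInvertible_twist (n := 2) (k := k) 0) = 1 :=
    (Cube.clsMod_eq_one_iff _).2 (CMReg.nonempty_twist_zero (n := 2) (k := k))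
  have hone1 : clsMod (CMReg.isInvertible_twist (n := 1) (k := k) 0) = 1 :=
    (Cube.clsMod_eq_one_iff _).2 (CMReg.nonempty_twist_zero (n := 1) (k := k))
  have hχ2 : ∀ s : ℤ, 2 * chi k (clsMod (CMReg.isInvertible_twist (n := 2) (k := k) s)) = (s + 1) * (s + 2) := fun s => by
    rw [← euler_eq_chi k, euler_plane k s]
  have hχ1 : ∀ s : ℤ, chi k (clsMod (CMReg.isInvertible_twist (n := 1) (k := k) s)) = s + 1 := fun s => by
    rw [← euler_eq_chi k]
    exact CurveMult.P1Split.euler_O1 k s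
  have hdl := CurveMult.P1Split.dim_le k
  obtain ⟨-, -, -, -, -, -, s0⟩ := HypSq28.seq k j hover hI hdl 1
  obtain ⟨-, -, -, -, -, -, s1⟩ := HypSq28.seq k j hover hI hdl (clsMod hT1)
  rw [one_mul, map_one, hcm, ← hone, ← hone1, hχ1] at s0
  rw [hpull, hχ1, hcm, hadd] at s1
  have a0 := hχ2 0
  have a1 := hχ2 1
  have am := hχ2 m
  have am1 := hχ2 (1 + m)
  have hm : m = -1 := by nlinarith [s0, s1, a0, a1, am, am1]
  rw [hcm, hm]

end GrothLib.PlaneBlow28
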