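import Groth.Agent.Lib.PlaneBlow28.Nef
import Groth.Agent.Lib.PlaneBlow28.Line
import Groth.Agent.Lib.BlowUp.Universal
import Groth.Agent.Lib.Contract29.PicBlowUp

/-!
# The inverse image of a general line in a blow-up of the plane in finitely many points
-/

universe u

set_option autoImplicit false
set_option linter.all false
set_option backward.isDefEq.respectTransparency false
set_option maxHeartbeats 2000000

open CategoryTheory CategoryTheory.Limits AlgebraicGeometry TopologicalSpace

noncomputable section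

namespace GrothLib.PlaneBlow28

open GrothLib.Cube (Pic clsMod pull)
open GrothLib.HodgeIndex (rep isInv_rep cls_rep chi euler_eq_chi chi_one isect cCl)
open GrothLib.BlowPt28 (tw tw_add tw_zero)

/-- A closed subscheme in an open over which a morphism is an isomorphism lifts isomorphically. -/
theorem isIso_pullback_snd {X P Q : Scheme.{u}} (σ : X ⟶ P) (j : Q ⟶ P) (V : P.Opens) [IsIso (σ ∣_ V)]
    (hV : ∀ z, j z ∈ V) : IsIso (pullback.snd σ j) := by
  have hr : Set.range j ⊆ Set.range V.ι := by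
    rintro _ ⟨z, rfl⟩
    rw [Scheme.Opens.range_ι]
    exact hV z
  let jV := IsOpenImmersion.lift V.ι j hr
  have hj : jV ≫ V.ι = j := IsOpenImmersion.lift_fac _ _ hr
  haveI h1 : IsIso (pullback.fst V.ι σ) := by
    have e : pullback.fst V.ι σ = (pullbackSymmetry V.ι σ).hom ≫ (pullbackRestrictIsoRestrict σ V).hom ≫ (σ ∣_ V) := by
      simp [morphismRestrict]
    rw [e]
    infer_instance
  haveI h2 : IsIso (pullback.fst jV (pullback.fst V.ι σ)) := inferInstance
  haveI h3 : IsIso (pullback.fst (jV ≫ V.ι) σ) := by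
    have e : pullback.fst (jV ≫ V.ι) σ =
        (pullbackRightPullbackFstIso V.ι σ jV).inv ≫ pullback.fst jV (pullback.fst V.ι σ) := by simp
    rw [e]
    infer_instance
  rw [hj] at h3
  have e : pullback.snd σ j = (pullbackSymmetry σ j).hom ≫ pullback.fst j σ := by simp
  rw [e]
  infer_instance

variable (k : Type u) [Field k] [IsAlgClosed k] {r : ℕ} (P : Fin r → ↥(CohB1.ProjSpace 2 k))
  (hZ : IsClosed (Set.range P)) {X : Scheme.{u}} [X.Over (Spec (CommRingCat.of k))] {σ : X ⟶ CohB1.ProjSpace 2 k}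
  (hσk : σ ≫ CohB1.ProjSpace.toSpec 2 k = X ↘ (Spec (CommRingCat.of k)))
  (hσ : _root_.BlowUp.IsBlowUp σ (Scheme.IdealSheafData.vanishingIdeal ⟨Set.range P, hZ⟩))
  [IsIntegral X] [IsProper (X ↘ (Spec (CommRingCat.of k)))] [Smooth (X ↘ (Spec (CommRingCat.of k)))]
  (hdim : topologicalKrullDim X = ((2 : ℕ) : WithBot ℕ∞))

include hσk hσ hdim in
/-- The inverse image of a general line: a smooth rational curve of class `H`. -/
theorem exists_lift_line : ∃ (g : CohB1.ProjSpace 1 k ⟶ X) (_ : IsClosedImmersion g)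
    (C : X.IdealSheafData) (_ : IsIntegral C.subscheme),
    topologicalKrullDim (C.support : Set X) = 1 ∧ cCl C = Hσ k σ ∧
      g ≫ X ↘ Spec (CommRingCat.of k) = CohB1.ProjSpace.toSpec 1 k ∧ g.ker = C ∧
      pull g (Hσ k σ) = tw k 1 1 ∧
      Curv2.euler k X (ClSub.quotMod C) = 1 ∧ isect k (Hσ k σ) (Hσ k σ) = 1 := by
  haveI : Infinite k := IsAlgClosed.instInfinite
  obtain ⟨j, hjc, hI, hav, hjover, hjpull, hjcls⟩ := exists_line_avoid k (Set.range P) (Set.finite_range P)
  letI : (CohB1.ProjSpace 1 k).Over (Spec (CommRingCat.of k)) := ⟨CohB1.ProjSpace.toSpec 1 k⟩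
  haveI : IsProper (CohB1.ProjSpace 1 k ↘ Spec (CommRingCat.of k)) := Chow.isProper_toSpec 1 k
  haveI : IsIntegral (CohB1.ProjSpace 1 k) := ProjDim.isIntegral_proj k 1
  haveI : IsProper (CohB1.ProjSpace.toSpec 2 k) := Chow.isProper_toSpec 2 k
  haveI := GrothLib.BlowUp.isIso_off_center hσ
  haveI := isIso_pullback_snd σ j _ (fun z => show j z ∈
      (Scheme.IdealSheafData.vanishingIdeal (X := CohB1.ProjSpace 2 k) ⟨Set.range P, hZ⟩).support.compl from fun h => hav z (by
    have h' : j z ∈ ((Scheme.IdealSheafData.vanishingIdeal (X := CohB1.ProjSpace 2 k) ⟨Set.range P, hZ⟩).support : Set _) := h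
    rwa [Scheme.IdealSheafData.coe_support_vanishingIdeal] at h'))
  haveI := hjc
  haveI : IsClosedImmersion (pullback.fst σ j) := MorphismProperty.pullback_fst _ _ inferInstance
  let g : CohB1.ProjSpace 1 k ⟶ X := inv (pullback.snd σ j) ≫ pullback.fst σ j
  haveI hgc : IsClosedImmersion g := inferInstance
  have hg : g ≫ σ = j := by
    rw [Category.assoc, pullback.condition, IsIso.inv_hom_id_assoc]
  have hgover : g ≫ X ↘ Spec (CommRingCat.of k) = CohB1.ProjSpace.toSpec 1 k := by
    rw [← hσk, ← Category.assoc, hg, hjover]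
  have hker : g.ker = j.ker.comap σ := by
    rw [← Scheme.IdealSheafData.ker_fst_of_isClosedImmersion j σ]
    exact Scheme.Hom.ker_comp_of_isIso _ _
  haveI : IsIntegral g.ker.subscheme := by
    haveI : Nonempty g.ker.subscheme := ⟨g.toImage (genericPoint (CohB1.ProjSpace 1 k))⟩
    exact isIntegral_of_isOpenImmersion (inv g.toImage : g.ker.subscheme ⟶ _)
  have hd1 : topologicalKrullDim (g.ker.support : Set X) = 1 := by
    rw [← Scheme.IdealSheafData.range_subschemeι, ← IsHomeomorph.topologicalKrullDim_eq _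
      (g.ker.subschemeι.isClosedEmbedding.isEmbedding.toHomeomorph).isHomeomorph,
      ← IsHomeomorph.topologicalKrullDim_eq _ (asIso g.toImage).schemeIsoToHomeo.isHomeomorph]
    exact CurveMult.P1Split.dim_P1 k
  have hCi : IsIntegral g.ker.subscheme := inferInstance
  have hJ := HodgeIndex.inv_curve k hdim hCi hd1
  have hJ' : PicF.IsInvertible (ClSub.idealMod (j.ker.comap σ)) := hker ▸ hJ
  have hcls : clsMod hJ = (Hσ k σ)⁻¹ := by
    have e : clsMod hJ = clsMod hJ' := (Cube.clsMod_eq_iff _ _).2 ⟨eqToIso (by rw [hker])⟩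
    rw [e, ← Contract29.pull_cls_comap σ _ hI hJ', hjcls, Hσ, ← map_inv]
    congr 1
    rw [eq_inv_iff_mul_eq_one, ← tw_zero k 2]
    exact tw_add k 2 (-1) 1
  have hcC : cCl g.ker = Hσ k σ := by
    rw [cCl, dif_pos hJ, hcls, inv_inv]
  have hgH : pull g (Hσ k σ) = tw k 1 1 := by
    rw [Hσ, Cube.pull_comp, hg, hjpull]
  have hχ : ∀ s : ℤ, chi k (tw k 1 s) = s + 1 := fun s => by
    rw [tw, ← euler_eq_chi k]
    exact CurveMult.P1Split.euler_O1 k s
  have he : Curv2.euler k X (ClSub.quotMod g.ker) = 1 := by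
    have hC : Curv2.euler k (CohB1.ProjSpace 1 k) (Coh.structureModule (CohB1.ProjSpace 1 k)) =
        Curv2.euler k X (ClSub.quotMod g.ker) := by
      rw [← Euler.euler_of_iso k (Ample.nonempty_pullback_structureModule g).some,
        Kleiman.euler_pullback_eq_quotMod k g hgover Euler.isInvertible_structure]
      exact Kleiman.euler_tensor_structure k _
    rw [← hC, ← chi_one k, ← tw_zero k 1, hχ]
    norm_num
  refine ⟨g, hgc, g.ker, hCi, hd1, hcC, hgover, rfl, hgH, he, ?_⟩
  have hI' : PicF.IsInvertible (ClSub.idealMod g.ker) := hJ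
  have hY := CurveMult.P1Split.dim_le k
  obtain ⟨-, -, -, -, -, -, s1⟩ := HypSq28.seq k g hgover hI' hY (Hσ k σ)
  obtain ⟨-, -, -, -, -, -, s0⟩ := HypSq28.seq k g hgover hI' hY 1
  have hh : clsMod hI' = (Hσ k σ)⁻¹ := hcls
  rw [hh, hgH, hχ, mul_inv_cancel] at s1
  rw [hh, map_one, one_mul, ← tw_zero k 1, hχ] at s0
  have hn := HodgeIndex.isect_inv_right k hdim.le (Hσ k σ) (Hσ k σ)
  rw [isect, mul_inv_cancel] at hn
  linarith

include hσk hσ hdim in
/-- The canonical class has degree `-3` on the pullback of a line. -/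
theorem H_canonical {W : X.Modules} (hW : ExtPow.IsExtPow 2 (Omega.sheaf (X ↘ (Spec (CommRingCat.of k)))) W) :
    isect k (Hσ k σ) (clsMod (SurfRR28.isInvertible_W k hdim hW)) = -3 := by
  obtain ⟨g, -, C, hCi, hCd, hc, -, -, -, he, hH⟩ := exists_lift_line k P hZ hσk hσ hdim
  obtain ⟨hs2, n, ι, hι, hιc⟩ := SurfRR28.exists_embedding k X hdim
  haveI := hι
  have h := SurfRR28.adjunction_isect k hdim (HodgeIndex.isAmple_hyperplane ι) hW C hCi hCd
  rw [hc, he, hH] at h
  linarith

end GrothLib.PlaneBlow28
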