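import Groth.Agent.Lib.PlaneBlow28.Basic
import Groth.Agent.Lib.BlowPt28.Plane

/-!
# The class of a line pulled back to a surface over the plane
-/

universe u

set_option autoImplicit false
set_option linter.all false
set_option backward.isDefEq.respectTransparency false
set_option maxHeartbeats 1000000

open CategoryTheory CategoryTheory.Limits AlgebraicGeometry TopologicalSpace

noncomputable section

namespace GrothLib.PlaneBlow28

open GrothLib.Cube (Pic clsMod pull)
open GrothLib.HodgeIndex (rep isInv_rep cls_rep chi euler_eq_chi chi_one isect cCl)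
open GrothLib.Snapper (IsTop mixed phi ptMod)

variable (k : Type u) [Field k] {X : Scheme.{u}} [X.Over (Spec (CommRingCat.of k))]
  [IsProper (X ↘ Spec (CommRingCat.of k))] (σ : X ⟶ CohB1.ProjSpace 2 k)
  (hσk : σ ≫ CohB1.ProjSpace.toSpec 2 k = X ↘ Spec (CommRingCat.of k))

/-- The pullback of a line. -/
def Hσ : Pic X := pull σ (BlowPt28.tw k 2 1)

theorem cls_H (hH : PicF.IsInvertible ((Scheme.Modules.pullback σ).obj (Twist.twistProjSpace 2 k 1))) :
    clsMod hH = Hσ k σ := Cube.clsMod_pullback σ _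

theorem isInv_H : PicF.IsInvertible ((Scheme.Modules.pullback σ).obj (Twist.twistProjSpace 2 k 1)) :=
  Ample.isInvertible_pullback σ (CMReg.isInvertible_twist (n := 2) (k := k) 1)

variable [IsIntegral X] (hdim : topologicalKrullDim X = ((2 : ℕ) : WithBot ℕ∞))

include hσk in
theorem H_deg_nonneg {y : X} (hy : IsTop 1 y) : 0 ≤ HodgeIndex.deg k y (Hσ k σ) := by
  letI : (CohB1.ProjSpace 2 k).Over (Spec (CommRingCat.of k)) := ⟨CohB1.ProjSpace.toSpec 2 k⟩
  haveI : IsProper (CohB1.ProjSpace 2 k ↘ Spec (CommRingCat.of k)) := Chow.isProper_toSpec 2 k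
  have hA : CohB1.IsAmple (Twist.twistProjSpace 2 k 1) := Ample.isAmple_twistProjSpace_one 2 k
  obtain ⟨h0, h1⟩ := HodgeIndex.deg_pullback k σ hσk hA.1 hy
  have hc : clsMod (Kleiman.isInv_pullback σ hA.1) = Hσ k σ := cls_H k σ _
  rw [hc] at h0 h1
  by_cases hT : IsTop 1 (σ y)
  · obtain ⟨r, hr, e⟩ := h1 hT
    haveI := Euler.isNoetherian_of_proper (X := CohB1.ProjSpace 2 k) k
    have hp := Snapper.mixed_pos k 1 (CohB1.ProjSpace 2 k) (Twist.twistProjSpace 2 k 1) hA (ptMod (σ y))
      (Snapper.isCoh_ptMod (σ y)) (hT.dimLT.mono (Snapper.support_ptMod (σ y)))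
      ⟨σ y, Kleiman.mem_support_ptMod k (σ y), hT⟩
    rw [e]
    positivity
  · rw [h0 hT]

include hσk hdim in
/-- Classes of negative degree on the pullback of lines have no sections. -/
theorem h0_eq_zero {z : Pic X} (hz : isect k (Hσ k σ) z < 0) : h k 0 z = 0 :=
  h0_eq_zero_of_nef k hdim (fun _ hy => H_deg_nonneg k σ hσk hy) hz

include hdim in
theorem intNum_H {L : X.Modules} (hL : PicF.IsInvertible L) :
    FGA.intNum k X 2 ![L, ((Scheme.Modules.pullback σ).obj (Twist.twistProjSpace 2 k 1))] (Coh.structureModule X) =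
      isect k (Hσ k σ) (clsMod hL) := by
  rw [SurfRR28.intNum_eq_isect' k hdim.le hL (isInv_H k σ), cls_H, HodgeIndex.isect_comm]

variable [Smooth (X ↘ Spec (CommRingCat.of k))] {C : X.IdealSheafData} (hCi : IsIntegral C.subscheme)
  (hCd : topologicalKrullDim (C.support : Set X) = 1)

include hσk hdim hCi hCd in
theorem H_curve_nonneg : 0 ≤ isect k (Hσ k σ) (cCl C) := by
  obtain ⟨y, hy, -, -, e⟩ := HodgeIndex.isect_cCl_eq_deg k hdim hCi hCd (Hσ k σ)
  have h1 := H_deg_nonneg k σ hσk hy
  rw [← e] at h1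
  exact_mod_cast h1

include hdim hCi hCd in
theorem deg_H : Curv2.euler k X (CohB1.tensorMod (ClSub.quotMod C) ((Scheme.Modules.pullback σ).obj (Twist.twistProjSpace 2 k 1))) -
    Curv2.euler k X (ClSub.quotMod C) = isect k (Hσ k σ) (cCl C) := by
  rw [deg_curve k hdim hCi hCd (isInv_H k σ), cls_H]

end GrothLib.PlaneBlow28
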