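import Groth.Agent.Lib.PlaneBlow28.Basic
import Groth.Agent.Lib.HodgeIndex.Nef
import Groth.Agent.Lib.Nakai.Criterion

/-!
# Curves of negative degree on effective classes
-/

universe u

set_option autoImplicit false
set_option linter.all false
set_option backward.isDefEq.respectTransparency false
set_option maxHeartbeats 1000000

open CategoryTheory CategoryTheory.Limits AlgebraicGeometry TopologicalSpace

noncomputable section

namespace GrothLib.PlaneBlow28

open GrothLib.Cube (Pic clsMod pull)
open GrothLib.HodgeIndex (rep isInv_rep cls_rep chi euler_eq_chi chi_one isect cCl)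
open GrothLib.Snapper (IsTop mixed phi ptMod)

variable (k : Type u) [Field k] {X : Scheme.{u}} [X.Over (Spec (CommRingCat.of k))]
  [IsProper (X ↘ Spec (CommRingCat.of k))] [IsIntegral X] (hdim : topologicalKrullDim X = ((2 : ℕ) : WithBot ℕ∞))
  [Smooth (X ↘ Spec (CommRingCat.of k))]

include hdim in
/-- A curve of negative degree on an effective class has negative square. -/
theorem sq_neg_of_neg_on_effective {C : X.IdealSheafData} (hCi : IsIntegral C.subscheme)
    (hCd : topologicalKrullDim (C.support : Set X) = 1) {z : Pic X} (hz : h k 0 z ≠ 0)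
    (hneg : isect k z (cCl C) < 0) : isect k (cCl C) (cCl C) < 0 := by
  haveI : Nontrivial (Coh.HH X (rep z) 0) := Module.nontrivial_of_finrank_pos (R := k) (Nat.pos_of_ne_zero hz)
  have hp := SurfRR28.pLe_one_of_nontrivial (isInv_rep z) inferInstance
  rw [cls_rep] at hp
  obtain ⟨s, hs, T, m, hT, hd⟩ := HodgeIndex.eff_decomp_pic k hdim hp
  obtain ⟨y₀, hy₀, he, -⟩ := HodgeIndex.exists_curve_point k hdim hCi hCd
  have hc : cCl C = (clsMod (HodgeIndex.inv_curveIdeal k hdim hy₀))⁻¹ := by
    subst he
    rw [cCl, dif_pos (HodgeIndex.inv_curveIdeal k hdim hy₀)]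
  by_contra hsq
  have h0 : (0 : ℚ) ≤ (isect k (cCl C) z : ℚ) := by
    rw [hd (cCl C)]
    refine Finset.sum_nonneg fun y hy => mul_nonneg (Nat.cast_nonneg _) ?_
    rw [hc]
    by_cases hyy : y = y₀
    · subst hyy
      rw [HodgeIndex.deg_eq_isect k hdim hy₀, ← hc]
      exact_mod_cast not_lt.1 hsq
    · exact HodgeIndex.deg_curve_nonneg k hdim (hT y hy).1 hy₀ hyy
  have : (0 : ℤ) ≤ isect k (cCl C) z := by exact_mod_cast h0
  rw [HodgeIndex.isect_comm] at this
  omega

include hdim in
/-- The Nakai criterion on a surface. -/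
theorem isAmple_of_curves {L : X.Modules} (hL : PicF.IsInvertible L) (hsq : 0 < isect k (clsMod hL) (clsMod hL))
    (hC : ∀ C : X.IdealSheafData, IsIntegral C.subscheme → topologicalKrullDim (C.support : Set X) = 1 →
      0 < isect k (clsMod hL) (cCl C)) : CohB1.IsAmple L := by
  haveI := Euler.isNoetherian_of_proper (X := X) k
  refine Nakai.isAmple_of_pos k hL fun x d hd hx => ?_
  have hd2 : d ≤ 2 := by
    have h : topologicalKrullDim (closure ({x} : Set X)) ≤ topologicalKrullDim X :=
      (Topology.IsInducing.subtypeVal).topologicalKrullDim_le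
    rw [show topologicalKrullDim (closure ({x} : Set X)) = (d : WithBot ℕ∞) from hx, hdim] at h
    exact_mod_cast h
  rcases (show d = 1 ∨ d = 2 by omega) with rfl | rfl
  · let C := HodgeIndex.curveIdeal x
    have hs : topologicalKrullDim (C.support : Set X) = 1 := by
      rw [← C.range_subschemeι, Snapper.range_pt x]
      exact hx
    have h1 := hC C (Snapper.isIntegral_pt x) hs
    have h2 : HodgeIndex.deg k x (clsMod hL) = (isect k (clsMod hL) (cCl C) : ℚ) := by
      rw [HodgeIndex.deg_eq_isect k hdim hx, cCl, dif_pos (HodgeIndex.inv_curveIdeal k hdim hx)]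
    rw [← HodgeIndex.deg_eq_mixed k hL, h2]
    exact_mod_cast h1
  · obtain rfl : x = genericPoint X :=
      (hx.eq_of_specializes (genericPoint_specializes x) (Kleiman.isTop_genericPoint hdim).dimLT).symm
    have hO : Coh.IsCoh (Coh.structureModule X) := Kleiman.isCoh_O k
    have hdO := HodgeIndex.support_structure_dimLT k hdim.le
    have hLL : 0 < mixed 2 (phi k 2 (fun _ => L) (Coh.structureModule X)) := by
      have e : phi k 2 (fun _ => L) (Coh.structureModule X) =
          phi k 2 (fun _ => rep (clsMod hL)) (Coh.structureModule X) := funext fun n =>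
        Kleiman.phi_eq_of_cls k (fun _ => hL) (fun _ => isInv_rep _) _ (by simp [cls_rep])
      rw [e, HodgeIndex.mixed_rep_const k hdim.le]
      exact_mod_cast hsq
    have hfin := Snapper.finite_support_topTerm (phi k 2 (fun _ : Fin 2 => L)) (QCoh.isClosed_support_of_isCoh hO) hdO
      (Set.Subset.refl (CohB1.support (Coh.structureModule X)))
    have h := Snapper.mixed_eq_zero (Snapper.phi_sub_sum_mem k (L := fun _ : Fin 2 => L) (fun _ => hL) hO hdO)
    rw [finsum_eq_single _ (genericPoint X) fun y hy => Snapper.topTerm_eq_zero _ fun hyt _ => hy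
      (hyt.eq_of_specializes (genericPoint_specializes _) (Kleiman.isTop_genericPoint hdim).dimLT).symm,
      Snapper.topTerm_of _ (Kleiman.isTop_genericPoint hdim), map_sub, map_nsmul, sub_eq_zero, nsmul_eq_mul] at h
    rw [h] at hLL
    exact pos_of_mul_pos_right hLL (Nat.cast_nonneg _)

include hdim in
theorem deg_inverse {C : X.IdealSheafData} (hCi : IsIntegral C.subscheme)
    (hCd : topologicalKrullDim (C.support : Set X) = 1) {N : X.Modules}
    (hN : ClSub.IsInverseOf N (ClSub.idealMod C)) (hNi : PicF.IsInvertible N) :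
    Curv2.euler k X (CohB1.tensorMod (ClSub.quotMod C) N) - Curv2.euler k X (ClSub.quotMod C) =
      isect k (cCl C) (cCl C) := by
  rw [deg_curve k hdim hCi hCd hNi]
  congr 1
  have hI := HodgeIndex.inv_curve k hdim hCi hCd
  rw [cCl, dif_pos hI]
  refine eq_inv_of_mul_eq_one_left ?_
  rw [← Cube.clsMod_tensorMod hNi hI]
  exact (Cube.clsMod_eq_one_iff _).2 hN

end GrothLib.PlaneBlow28
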