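import Groth.Agent.Lib.BlowPt28.Push
import Groth.Agent.Lib.RatSing29.SeqH1
import Groth.Agent.Lib.BlowUpRegular.Cover
import Groth.Agent.Lib.Rat20Ext.Basic
import Groth.Agent.Lib.RelVanish.Basic
import Groth.Agent.Lib.ZClos.Basic
import Groth.Agent.Lib.Nagata6.ExtendIdeal
import Groth.Agent.Lib.BlowUpProper.Basic
import Groth.Agent.S0010
import Groth.Agent.S2348

/-!
# Direct images of the structure sheaf along a blow-up in finitely many surface points
-/

universe u

set_option autoImplicit false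
set_option linter.all false
set_option backward.isDefEq.respectTransparency false

open CategoryTheory CategoryTheory.Limits AlgebraicGeometry Opposite TopologicalSpace Abelian
open GrothLib.Cohom

noncomputable section

namespace GrothLib.PlaneBlow28

open GrothLib.BlowPt28 (subsingleton_ext_open)

variable {X X' : Scheme.{u}} [IsLocallyNoetherian X] (hreg : ∀ y : X, IsRegularLocalRing (X.presheaf.stalk y))
  {S : Set X} (hS : IsClosed S) (hSf : S.Finite) (hcl : ∀ s ∈ S, IsClosed ({s} : Set X))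
  (hd : ∀ s ∈ S, ringKrullDim (X.presheaf.stalk s) = 2) {b : X' ⟶ X}
  (hb : _root_.BlowUp.IsBlowUp b (Scheme.IdealSheafData.vanishingIdeal ⟨S, hS⟩))

include hreg hSf hcl hd hb in
/-- The higher direct images of the structure sheaf vanish. -/
theorem isZero_Rpush_fin (p : ℕ) (hp : 1 ≤ p) :
    IsZero ((Coh.RpushAb b p).obj (Coh.toAb (Coh.structureModule X'))) := by
  haveI : IsProper b := GrothLib.BlowUpProper.isProper_of_isBlowUp hb
  haveI : (Coh.structureModule X').IsQuasicoherent := Cohom.isQuasicoherent_structureModule X'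
  set J := Scheme.IdealSheafData.vanishingIdeal (⟨S, hS⟩ : Closeds X) with hJ
  have hJs : ∀ w : X, w ∈ (J.support : Set X) ↔ w ∈ S := fun w => by
    rw [Scheme.IdealSheafData.coe_support_vanishingIdeal]; rfl
  haveI := GrothLib.BlowUp.isIso_off_center hb
  have hloc : ∀ x : S, ∃ V : X.affineOpens, ((x : X) ∈ V.1) ∧
      ∃ a : Fin (1 + 1) → Γ(X, V.1), GrothLib.BlowUp17.ctr a = J.ideal V := by
    rintro ⟨x, hx⟩
    haveI := hreg x
    obtain ⟨V, hxV, a, ha, -, -⟩ := GrothLib.ExcP1.exists_affine_params (hcl x hx) (hd x hx)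
    have hclosed : IsClosed (S \ {x}) := by
      have hsf : (S \ {x}).Finite := hSf.subset Set.sdiff_subset
      have e : S \ {x} = ⋃ s ∈ S \ {x}, ({s} : Set X) := (Set.biUnion_of_singleton _).symm
      rw [e]
      exact hsf.isClosed_biUnion fun s hs => hcl s hs.1
    obtain ⟨f, hf, hxf⟩ := V.2.exists_basicOpen_le (V := ⟨(S \ {x})ᶜ, hclosed.isOpen_compl⟩)
      ⟨x, fun h => h.2 rfl⟩ hxV
    refine ⟨X.affineBasicOpen f, hxf, fun i => (X.presheaf.map (homOfLE (X.basicOpen_le f)).op).hom (a i), ?_⟩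
    have e : J.ideal (X.affineBasicOpen f) =
        (Scheme.IdealSheafData.vanishingIdeal (⟨{x}, hcl x hx⟩ : Closeds X)).ideal (X.affineBasicOpen f) := by
      rw [hJ, Scheme.IdealSheafData.vanishingIdeal_ideal, Scheme.IdealSheafData.vanishingIdeal_ideal]
      congr 1
      ext q
      constructor
      · intro hq
        by_contra hne
        have hm : (X.affineBasicOpen f).2.fromSpec q ∈ X.basicOpen f := by
          rw [← SetLike.mem_coe, ← Scheme.affineBasicOpen_coe, ← (X.affineBasicOpen f).2.range_fromSpec]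
          exact ⟨q, rfl⟩
        exact hf hm ⟨hq, hne⟩
      · intro hq
        show _ ∈ S
        rw [show (X.affineBasicOpen f).2.fromSpec q = x from hq]
        exact hx
    rw [e, ← Scheme.IdealSheafData.map_ideal_basicOpen, ← ha, GrothLib.BlowUp17.ctr, GrothLib.BlowUp17.ctr,
      Ideal.map_span, ← Set.range_comp]
    rfl
  choose Vf hxV af haf using hloc
  refine GrothLib.RelVanish.isZero_RpushAb_of_cover b _ p
    (I := S ⊕ {W : X.affineOpens // W.1 ≤ J.support.compl})
    (fun o => Sum.elim (fun s => (Vf s).1) (fun W => W.1.1) o) (fun o => ?_) (fun w => ?_) ?_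
  · rcases o with s | W
    · exact (Vf s).2
    · exact W.1.2
  · by_cases h : w ∈ S
    · exact ⟨Sum.inl ⟨w, h⟩, hxV ⟨w, h⟩⟩
    · obtain ⟨_, ⟨U, hU, rfl⟩, hwU, hUc⟩ := X.isBasis_affineOpens.exists_subset_of_mem_open
        (show w ∈ J.support.compl from fun h' => h ((hJs w).1 h')) J.support.compl.isOpen
      exact ⟨Sum.inr ⟨⟨U, hU⟩, hUc⟩, hwU⟩
  rintro (s | W)
  · obtain ⟨V, a, ha, hV⟩ : ∃ (V : X.affineOpens) (a : Fin (1 + 1) → Γ(X, V.1)),
      GrothLib.BlowUp17.ctr a = J.ideal V ∧ Vf s = V := ⟨Vf s, af s, haf s, rfl⟩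
    show Subsingleton (Ext.{u} (freeFun.obj (b ⁻¹ᵁ (Vf s).1)) _ p)
    rw [hV]
    refine subsingleton_ext_open (b ⁻¹ᵁ V.1) p ?_
    let e : ((b ⁻¹ᵁ V.1 : X'.Opens) : Scheme.{u}) ⟶ pullback V.2.fromSpec b :=
      pullback.lift ((b ∣_ V.1) ≫ V.2.isoSpec.hom) (b ⁻¹ᵁ V.1).ι (by
        rw [Category.assoc, ← morphismRestrict_ι]
        congr 1
        exact V.2.isoSpec_hom_fromSpec)
    have sq : IsPullback ((b ∣_ V.1) ≫ V.2.isoSpec.hom) (b ⁻¹ᵁ V.1).ι V.2.fromSpec b :=
      IsPullback.of_iso (isPullback_morphismRestrict b V.1) (Iso.refl _) V.2.isoSpec (Iso.refl _) (Iso.refl _)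
        (by simp) (by simp) (by simp [V.2.isoSpec_hom_fromSpec]) (by simp)
    haveI : IsIso e := by
      have : e = sq.isoPullback.hom := pullback.hom_ext (by simp [e]) (by simp [e])
      rw [this]; infer_instance
    have hbl := GrothLib.BlowUp.isBlowUp_flat_baseChange V.2.fromSpec hb
    rw [show J.comap V.2.fromSpec = GrothLib.BlowUp.idealSheaf (GrothLib.BlowUp17.ctr a) by
      rw [GrothLib.Nagata6.comap_fromSpec, ha]] at hbl
    have hbl' := GrothLib.ArSurf29.isBlowUp_iso_comp hbl e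
    rcases Nat.lt_or_ge p 2 with hp2 | hp2
    · obtain rfl : p = 1 := by omega
      exact GrothLib.RatSing29.subsingleton_h1 a hbl' _ GrothLib.CurveMult.isGloballyGenerated_structure
    · obtain ⟨hsep, U, hU, hcov⟩ := GrothLib.BlowUpRegular.exists_affine_cover a hbl'
      haveI := hsep
      haveI : Coh.IsQCoh (Coh.structureModule (b ⁻¹ᵁ V.1 : X'.Opens).toScheme) :=
        Cohom.isQuasicoherent_structureModule _
      haveI := Groth.Agent.S0010.result _ _ U hU hcov (fun A B hA hB => hA.inf hB)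
        (Coh.structureModule (b ⁻¹ᵁ V.1 : X'.Opens).toScheme) p hp2
      exact (HEquivTop (Coh.toAb (Coh.structureModule (b ⁻¹ᵁ V.1 : X'.Opens).toScheme)) p).symm.toEquiv.subsingleton
  · show Subsingleton (Ext.{u} (freeFun.obj (b ⁻¹ᵁ W.1.1)) _ p)
    haveI := GrothLib.Nagata6.isIso_restrict_of_le b _ _ W.2
    haveI : IsAffine (W.1.1 : Scheme.{u}) := W.1.2
    obtain ⟨q, rfl⟩ : ∃ q, p = q + 1 := ⟨p - 1, by omega⟩
    exact subsingleton_ext_freeFun_of_isAffineOpen (IsAffine.of_isIso (b ∣_ W.1.1) : IsAffineOpen (b ⁻¹ᵁ W.1.1)) _ q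

include hreg hSf hcl hd hb in
/-- `R^p b_* O = 0` as modules. -/
theorem isZero_Rpush_module_fin [HasInjectiveResolutions X'.Modules] (p : ℕ) (hp : 1 ≤ p) :
    IsZero ((Coh.Rpush b p).obj (Coh.structureModule X')) := by
  haveI : (QCoh.toAbFun X).Faithful := inferInstanceAs (SheafOfModules.toSheaf _).Faithful
  obtain ⟨e⟩ := Groth.Agent.S11319.result b (Coh.structureModule X') p
  have h : IsZero ((QCoh.toAbFun X).obj ((Coh.Rpush b p).obj (Coh.structureModule X'))) :=
    (isZero_Rpush_fin hreg hS hSf hcl hd hb p hp).of_iso e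
  rw [IsZero.iff_id_eq_zero] at h ⊢
  apply (QCoh.toAbFun X).map_injective
  rw [CategoryTheory.Functor.map_id, Functor.map_zero]
  exact h

end GrothLib.PlaneBlow28
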