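import Groth.Agent.S7928
import Groth.Agent.Lib.DivPart.Basic
import Groth.Agent.Lib.BlowPt28.Canon
import Groth.Agent.Lib.RelDiv.Cancel
import Groth.Agent.Lib.RatSing29.StalkRational
import Groth.Agent.Lib.ArSurf29.FactorBlowUpIso

/-!
# The strict transform of a curve under the blow-up of a point of a surface
-/

universe u

set_option autoImplicit false
set_option linter.all false
set_option backward.isDefEq.respectTransparency false
set_option maxHeartbeats 1000000

open CategoryTheory CategoryTheory.Limits AlgebraicGeometry TopologicalSpace IsLocalRing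

noncomputable section

namespace GrothLib.PlaneBlow28

open GrothLib.CartierDescent (stalkIdeal stalkIdeal_eq_top_iff stalkIdeal_map_specializes exists_stalk_generator
  exists_of_mem_span_stalkSpecializes stalkIdeal_comap)
open GrothLib.DivPart (gpt gpt_mem_support gpt_specializes_iff stalkIdeal_gpt stalkIdeal_isPrime le_of_stalkIdeal
  stalkIdeal_mono stalkHom)

variable {X : Scheme.{u}}

/-- An ideal vanishing at the generic point of an integral divisor is contained in its ideal. -/
theorem le_of_gpt_mem {D I : X.IdealSheafData} [IsIntegral D.subscheme] (hD : _root_.BlowUp.IsEffCartierIdeal D)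
    (hI : gpt D ∈ I.support) : I ≤ D := by
  refine le_of_stalkIdeal fun y f hf => ?_
  by_cases hy : y ∈ D.support
  · have hsp := gpt_specializes_iff.2 hy
    obtain ⟨t, -, ht⟩ := exists_stalk_generator hD y
    have h1 : X.presheaf.stalkSpecializes hsp f ∈ stalkIdeal D (gpt D) := by
      rw [stalkIdeal_gpt]
      refine IsLocalRing.le_maximalIdeal (fun h => (stalkIdeal_eq_top_iff I _).1 h hI) ?_
      rw [← stalkIdeal_map_specializes I hsp]
      exact Ideal.mem_map_of_mem _ hf
    rw [← stalkIdeal_map_specializes D hsp, ht, Ideal.map_span, Set.image_singleton] at h1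
    obtain ⟨u, hu, huf⟩ := exists_of_mem_span_stalkSpecializes hsp h1
    rw [← ht] at huf
    rcases (stalkIdeal_isPrime hy).mem_or_mem huf with h | h
    · refine absurd ?_ hu
      rw [Ideal.mem_comap, ← stalkIdeal_gpt (D := D), ← stalkIdeal_map_specializes D hsp]
      exact Ideal.mem_map_of_mem _ h
    · exact h
  · rw [(stalkIdeal_eq_top_iff D y).2 hy]
    trivial

/-- A maximal point of the support of an effective Cartier ideal has codimension at most one. -/
theorem coheight_le_one_of_maximal [IsLocallyNoetherian X] {Q : X.IdealSheafData}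
    (hQ : _root_.BlowUp.IsEffCartierIdeal Q) {z : X} (hz : z ∈ Q.support)
    (hmax : ∀ w ∈ Q.support, w ⤳ z → w = z) : Order.coheight z ≤ 1 := by
  obtain ⟨t, -, ht⟩ := exists_stalk_generator hQ z
  have hmin : maximalIdeal (X.presheaf.stalk z) ∈ (Ideal.span {t}).minimalPrimes := by
    rw [← ht]
    refine ⟨⟨inferInstance, IsLocalRing.le_maximalIdeal fun h => (stalkIdeal_eq_top_iff Q z).1 h hz⟩, ?_⟩
    rintro p ⟨hp, hpQ⟩ -
    let q : Spec (X.presheaf.stalk z) := ⟨p, hp⟩
    have hq : X.fromSpecStalk z q ∈ Q.support := by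
      by_contra h
      have hq' : q ∉ (Q.comap (X.fromSpecStalk z)).support := by
        rw [Scheme.IdealSheafData.support_comap]
        exact h
      rw [← stalkIdeal_eq_top_iff, ExcP1.stalkIdeal_comap_fromSpecStalk] at hq'
      refine (maximalIdeal ((Spec (X.presheaf.stalk z)).presheaf.stalk q)).ne_top_iff_one.1
        (maximalIdeal.isMaximal _).ne_top ?_
      refine (Ideal.map_le_iff_le_comap.2 fun a ha => ?_) ((Ideal.eq_top_iff_one _).1 hq')
      refine (mem_maximalIdeal _).2 fun hu => ?_
      have h1 := ((Spec (X.presheaf.stalk z)).mem_basicOpen ((Scheme.ΓSpecIso (X.presheaf.stalk z)).inv a) q trivial).2 hu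
      rw [basicOpen_eq_of_affine] at h1
      exact h1 (hpQ ha)
    have e : q = closedPoint (X.presheaf.stalk z) := by
      refine (X.fromSpecStalk z).isEmbedding.injective ?_
      rw [Scheme.fromSpecStalk_closedPoint]
      refine hmax _ hq ?_
      have h := Set.mem_range_self (f := X.fromSpecStalk z) q
      rwa [Scheme.range_fromSpecStalk] at h
    exact le_of_eq (congrArg PrimeSpectrum.asIdeal e).symm
  have h := Ideal.height_le_one_of_isPrincipal_of_mem_minimalPrimes (Ideal.span {t}) _ hmin
  have h2 : ringKrullDim (X.presheaf.stalk z) ≤ ((1 : ℕ∞) : WithBot ℕ∞) := by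
    rw [← IsLocalRing.maximalIdeal_height_eq_ringKrullDim]
    exact WithBot.coe_le_coe.2 h
  rw [ringKrullDim_stalk_eq_coheight] at h2
  exact WithBot.coe_le_coe.1 h2

section blow

variable {X' : Scheme.{u}} {x : X} (hx : IsClosed ({x} : Set X)) {b : X' ⟶ X}
  (hb : _root_.BlowUp.IsBlowUp b (Scheme.IdealSheafData.vanishingIdeal ⟨{x}, hx⟩))

theorem mem_vanishing_iff (z : X) :
    z ∈ (Scheme.IdealSheafData.vanishingIdeal ⟨{x}, hx⟩ : X.IdealSheafData).support ↔ z = x := by
  show z ∈ ((Scheme.IdealSheafData.vanishingIdeal ⟨{x}, hx⟩ : X.IdealSheafData).support : Set X) ↔ _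
  rw [Scheme.IdealSheafData.coe_support_vanishingIdeal]
  rfl

theorem mem_exceptional_iff (y : X') :
    y ∈ (_root_.BlowUp.exceptional b (Scheme.IdealSheafData.vanishingIdeal ⟨{x}, hx⟩)).support ↔ b y = x := by
  rw [← mem_vanishing_iff hx, show _root_.BlowUp.exceptional b (Scheme.IdealSheafData.vanishingIdeal ⟨{x}, hx⟩) =
    (Scheme.IdealSheafData.vanishingIdeal ⟨{x}, hx⟩).comap b from rfl, Scheme.IdealSheafData.support_comap]
  rfl

include hb in
/-- Off the centre a blow-up reflects specialisations. -/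
theorem specializes_of_map {p q : X'} (hp : b p ≠ x) (hq : b q ≠ x) (h : b p ⤳ b q) : p ⤳ q := by
  let U : X.Opens := (Scheme.IdealSheafData.vanishingIdeal ⟨{x}, hx⟩ : X.IdealSheafData).support.compl
  haveI : IsIso (b ∣_ U) := GrothLib.BlowUp.isIso_off_center hb
  haveI : IsOpenImmersion ((b ⁻¹ᵁ U).ι ≫ b) := by rw [← morphismRestrict_ι]; infer_instance
  have hmem : ∀ w, b w ≠ x → w ∈ b ⁻¹ᵁ U := fun w hw h => hw ((mem_vanishing_iff hx _).1 h)
  have h' : (⟨p, hmem p hp⟩ : (b ⁻¹ᵁ U : X'.Opens)) ⤳ ⟨q, hmem q hq⟩ := by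
    rw [← ((b ⁻¹ᵁ U).ι ≫ b).isOpenEmbedding.isInducing.specializes_iff, Scheme.Hom.comp_apply,
      Scheme.Hom.comp_apply]
    exact h
  exact h'.map (b ⁻¹ᵁ U).ι.continuous

include hb in
theorem map_genericPoint [IsIntegral X] [IsIntegral X'] {p : X'} (hp : b p ≠ x) :
    b (genericPoint X') = genericPoint X := by
  let U : X.Opens := (Scheme.IdealSheafData.vanishingIdeal ⟨{x}, hx⟩ : X.IdealSheafData).support.compl
  haveI : IsIso (b ∣_ U) := GrothLib.BlowUp.isIso_off_center hb
  have hU : genericPoint X ∈ U := (genericPoint_specializes (b p)).mem_open U.isOpen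
    fun h => hp ((mem_vanishing_iff hx _).1 h)
  obtain ⟨q, hq⟩ := (b ∣_ U).homeomorph.surjective ⟨genericPoint X, hU⟩
  have hq' : b q.1 = genericPoint X := by
    have h := congrArg U.ι hq
    rwa [show (b ∣_ U).homeomorph q = (b ∣_ U) q from rfl, ← Scheme.Hom.comp_apply, morphismRestrict_ι] at h
  have h := (genericPoint_specializes q.1).map b.continuous
  rw [hq'] at h
  exact (h.antisymm (genericPoint_specializes _)).eq

include hb in
/-- A curve of multiplicity `m` pulls back into exactly the `m`-th power of the exceptional ideal. -/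
theorem not_comap_le_pow [IsRegularLocalRing (X.presheaf.stalk x)]
    (hd : ringKrullDim (X.presheaf.stalk x) = 2) {C : X.IdealSheafData}
    (hC : _root_.BlowUp.IsEffCartierIdeal C) (m : ℕ)
    (hm : C ≤ Scheme.IdealSheafData.vanishingIdeal ⟨{x}, hx⟩ ^ m)
    (hm' : ¬ C ≤ Scheme.IdealSheafData.vanishingIdeal ⟨{x}, hx⟩ ^ (m + 1)) :
    ¬ C.comap b ≤ _root_.BlowUp.exceptional b (Scheme.IdealSheafData.vanishingIdeal ⟨{x}, hx⟩) ^ (m + 1) := by
  intro hle
  set J := Scheme.IdealSheafData.vanishingIdeal (⟨{x}, hx⟩ : Closeds X) with hJ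
  haveI : Flat (X.fromSpecStalk x) := GrothLib.FFDesc.flat_fromSpecStalk' X x
  let r := pullback.fst (X.fromSpecStalk x) b
  have hst : stalkIdeal J x = maximalIdeal (X.presheaf.stalk x) := ExcP1.stalkIdeal_vanishingIdeal hx
  have eJ : J.comap (X.fromSpecStalk x) = GrothLib.BlowUp.idealSheaf (maximalIdeal (X.presheaf.stalk x)) := by
    rw [GrothLib.BlowUp.eq_idealSheaf (J.comap (X.fromSpecStalk x)), ← hst]
    rfl
  obtain ⟨f, -, hf⟩ := exists_stalk_generator hC x
  have eC : C.comap (X.fromSpecStalk x) = GrothLib.BlowUp.idealSheaf (Ideal.span {f}) := by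
    rw [GrothLib.BlowUp.eq_idealSheaf (C.comap (X.fromSpecStalk x)), ← hf]
    rfl
  have hpow : ∀ n, stalkIdeal (J ^ n) x = maximalIdeal (X.presheaf.stalk x) ^ n := fun n => by
    rw [show stalkIdeal (J ^ n) x = stalkHom x (J ^ n) from rfl, map_pow, ← hst]
    rfl
  have hf1 : f ∈ maximalIdeal (X.presheaf.stalk x) ^ m := by
    rw [← hpow]
    exact stalkIdeal_mono hm x (hf ▸ Ideal.mem_span_singleton_self f)
  have hf2 : f ∉ maximalIdeal (X.presheaf.stalk x) ^ (m + 1) := fun h => hm' (le_of_stalkIdeal fun y => by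
    by_cases hy : y = x
    · subst hy
      rw [hf, hpow, Ideal.span_singleton_le_iff_mem]
      exact h
    · rw [show stalkIdeal (J ^ (m + 1)) y = stalkHom y (J ^ (m + 1)) from rfl, map_pow,
        show stalkHom y J = stalkIdeal J y from rfl,
        (stalkIdeal_eq_top_iff J y).2 fun h => hy ((mem_vanishing_iff hx y).1 h), Ideal.top_pow]
      exact le_top)
  have hr : _root_.BlowUp.IsBlowUp r (Curv2.idealSheaf (X.presheaf.stalk x) (maximalIdeal (X.presheaf.stalk x))) := by
    have h := GrothLib.BlowUp.isBlowUp_flat_baseChange (X.fromSpecStalk x) hb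
    rw [eJ] at h
    exact h
  have h7 := (Groth.Agent.S7928.result (X.presheaf.stalk x) hd r hr f m hf1 hf2).2.1
  apply h7
  have h := Scheme.IdealSheafData.comap_mono (pullback.snd (X.fromSpecStalk x) b) hle
  simp only [_root_.BlowUp.exceptional, GrothLib.BlowUp.comap_pow, ← Scheme.IdealSheafData.comap_comp,
    ← pullback.condition] at h
  simp only [Scheme.IdealSheafData.comap_comp, eJ, eC] at h
  simp only [_root_.BlowUp.exceptional]
  exact h

variable [IsNoetherian X] [IsIntegral X] [IsNoetherian X'] [IsIntegral X']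

include hb in
/-- **The total transform of a curve is its strict transform plus multiplicity times the exceptional
divisor.** -/
theorem comap_eq_strict (hd : ringKrullDim (X.presheaf.stalk x) = 2) [IsRegularLocalRing (X.presheaf.stalk x)]
    (C : X.IdealSheafData) [IsIntegral C.subscheme] (hC : _root_.BlowUp.IsEffCartierIdeal C)
    (C' : X'.IdealSheafData) [IsIntegral C'.subscheme] (hC' : _root_.BlowUp.IsEffCartierIdeal C')
    (hgen : b (gpt C') = gpt C) (hne : gpt C ≠ x) (m : ℕ)
    (hm : C ≤ Scheme.IdealSheafData.vanishingIdeal ⟨{x}, hx⟩ ^ m)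
    (hm' : ¬ C ≤ Scheme.IdealSheafData.vanishingIdeal ⟨{x}, hx⟩ ^ (m + 1)) :
    C.comap b = C' * _root_.BlowUp.exceptional b (Scheme.IdealSheafData.vanishingIdeal ⟨{x}, hx⟩) ^ m := by
  set J := Scheme.IdealSheafData.vanishingIdeal (⟨{x}, hx⟩ : Closeds X)
  set Ex := _root_.BlowUp.exceptional b J with hEx
  have hEc : _root_.BlowUp.IsEffCartierIdeal Ex := hb.1
  have hgx : b (gpt C') ≠ x := by rw [hgen]; exact hne
  have hJc : _root_.BlowUp.IsEffCartierIdeal (C.comap b) :=
    RatSing29.isEffCartierIdeal_comap_of_generic b (map_genericPoint hx hb hgx) hC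
  have hle : C.comap b ≤ Ex ^ m := by
    rw [hEx, _root_.BlowUp.exceptional, ← GrothLib.BlowUp.comap_pow]
    exact Scheme.IdealSheafData.comap_mono b hm
  obtain ⟨R, hR, hJR⟩ := RelDiv.exists_eq_mul (Nagata6.isEffCartierIdeal_pow hEc m) hJc hle
  have hst : ∀ y, stalkIdeal (C.comap b) y = stalkIdeal Ex y ^ m * stalkIdeal R y := fun y => by
    rw [hJR]
    show stalkHom y (Ex ^ m * R) = stalkHom y Ex ^ m * stalkHom y R
    rw [map_mul, map_pow]
  have hoff : ∀ y, b y ≠ x → stalkIdeal Ex y = ⊤ := fun y hy =>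
    (stalkIdeal_eq_top_iff _ _).2 fun h => hy ((mem_exceptional_iff hx y).1 h)
  have hsupp : gpt C' ∈ R.support := by
    by_contra h
    have h1 := hst (gpt C')
    rw [hoff _ hgx, Ideal.top_pow, (stalkIdeal_eq_top_iff R _).2 h, Ideal.top_mul] at h1
    refine (stalkIdeal_eq_top_iff _ _).1 h1 ?_
    rw [Scheme.IdealSheafData.support_comap]
    show b (gpt C') ∈ C.support
    rw [hgen]
    exact gpt_mem_support
  obtain ⟨Q, hQ, hRQ⟩ := RelDiv.exists_eq_mul hC' hR (le_of_gpt_mem hC' hsupp)
  have hstR : ∀ y, stalkIdeal R y = stalkIdeal C' y * stalkIdeal Q y := fun y => by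
    rw [hRQ]
    show stalkHom y (C' * Q) = stalkHom y C' * stalkHom y Q
    rw [map_mul]
  -- the residual divisor lies over the point
  have hQoff : ∀ y ∈ Q.support, b y = x := by
    intro y hy
    by_contra hyx
    have hJy : stalkIdeal (C.comap b) y = stalkIdeal C' y * stalkIdeal Q y := by
      rw [hst y, hoff y hyx, Ideal.top_pow, Ideal.top_mul, hstR]
    have hQy : stalkIdeal Q y ≠ ⊤ := fun h => (stalkIdeal_eq_top_iff Q y).1 h hy
    have hyJ : y ∈ (C.comap b).support := by
      by_contra h
      rw [(stalkIdeal_eq_top_iff _ y).2 h] at hJy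
      exact hQy (top_unique (hJy.le.trans Ideal.mul_le_right))
    have hyC : b y ∈ C.support := by
      rw [Scheme.IdealSheafData.support_comap] at hyJ
      exact hyJ
    have hy' : y ∈ C'.support := by
      refine gpt_specializes_iff.1 (specializes_of_map hx hb hgx hyx ?_)
      rw [hgen]
      exact gpt_specializes_iff.2 hyC
    haveI := GrothLib.ExcP1.isIso_stalkMap_off hx hb hyx
    haveI : (stalkIdeal (C.comap b) y).IsPrime := by
      rw [stalkIdeal_comap]
      haveI := stalkIdeal_isPrime (D := C) hyC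
      exact Ideal.map_isPrime_of_equiv (asIso (b.stalkMap y)).commRingCatIsoToRingEquiv
    have hp : (stalkIdeal (C.comap b) y).IsPrime := inferInstance
    obtain ⟨t, ht, ht'⟩ := exists_stalk_generator hC' y
    obtain ⟨q, hq, hq'⟩ := exists_stalk_generator hQ y
    rw [hJy, ht', hq', Ideal.span_singleton_mul_span_singleton] at hp
    have htu : ¬ IsUnit t := fun h => (stalkIdeal_eq_top_iff C' y).1
      (ht'.trans (Ideal.span_singleton_eq_top.2 h)) hy'
    have hqu : ¬ IsUnit q := fun h => hQy (hq'.trans (Ideal.span_singleton_eq_top.2 h))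
    rcases hp.mem_or_mem (Ideal.mem_span_singleton_self (t * q)) with h | h
    · obtain ⟨c, hc⟩ := Ideal.mem_span_singleton.1 h
      exact hqu (isUnit_of_dvd_one ⟨c, ((mul_cancel_left_mem_nonZeroDivisors ht).1
        (show t * 1 = t * (q * c) by rw [mul_one, ← mul_assoc]; exact hc))⟩)
    · obtain ⟨c, hc⟩ := Ideal.mem_span_singleton.1 h
      exact htu (isUnit_of_dvd_one ⟨c, ((mul_cancel_left_mem_nonZeroDivisors hq).1
        (show q * 1 = q * (t * c) by rw [mul_one, ← mul_assoc, mul_comm q t]; exact hc))⟩)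
  -- hence it is empty
  have hQtop : Q = ⊤ := by
    rw [← Scheme.IdealSheafData.support_eq_bot_iff]
    refine SetLike.coe_injective (Set.eq_empty_iff_forall_notMem.2 fun y hy => ?_)
    obtain ⟨z, hz, -, hmax⟩ := DivPart.exists_maximal_generization Q.support.2 hy
    haveI : IsIntegral Ex.subscheme := by
      haveI : IsProper b := GrothLib.BlowUpProper.isProper_of_isBlowUp hb
      obtain ⟨e, -, -⟩ := GrothLib.ExcP1.exists_iso_point hx hd hb
      haveI := GrothLib.ProjDim.isIntegral_proj (X.residueField x) 1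
      haveI : Nonempty Ex.subscheme := ⟨e.hom (genericPoint (CohB1.ProjSpace 1 (X.residueField x)))⟩
      exact isIntegral_of_isOpenImmersion e.inv
    have hzE : z ∈ Ex.support := (mem_exceptional_iff hx z).2 (hQoff z hz)
    have hzg := DivPart.eq_gpt_of_coheight_le hEc hzE (coheight_le_one_of_maximal hQ hz hmax)
    have hQE : Q ≤ Ex := le_of_gpt_mem hEc (hzg ▸ hz)
    refine not_comap_le_pow hx hb hd hC m hm hm' ?_
    rw [hJR, hRQ, pow_succ]
    refine le_of_stalkIdeal fun w => ?_
    show stalkHom w (Ex ^ m * (C' * Q)) ≤ stalkHom w (Ex ^ m * Ex)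
    simp only [map_mul]
    exact Ideal.mul_mono le_rfl (Ideal.mul_le_right.trans (stalkIdeal_mono hQE w))
  rw [hJR, hRQ, hQtop, ← Scheme.IdealSheafData.one_eq_top, mul_one, mul_comm]

end blow

end GrothLib.PlaneBlow28
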