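import Groth.Agent.Lib.PlaneBlow28.Strict
import Groth.Agent.Lib.PlaneBlow28.Basic
import Groth.Agent.Lib.ArSurf29.Inter
import Groth.Agent.Lib.BlowPt28.Apply
import Groth.Agent.Lib.Contract29.ContractInter
import Groth.Agent.S2348

/-!
# The class and the genus of a strict transform
-/

universe u

set_option autoImplicit false
set_option linter.all false
set_option backward.isDefEq.respectTransparency false
set_option maxHeartbeats 1000000

open CategoryTheory CategoryTheory.Limits AlgebraicGeometry TopologicalSpace IsLocalRing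

noncomputable section

namespace GrothLib.PlaneBlow28

open GrothLib.Cube (Pic clsMod pull)
open GrothLib.HodgeIndex (chi isect cCl)
open GrothLib.DivPart (gpt)

variable (k : Type u) [Field k] [IsAlgClosed k] {X X' : Scheme.{u}} [X.Over (Spec (CommRingCat.of k))]
  [IsProper (X ↘ Spec (CommRingCat.of k))] [Smooth (X ↘ Spec (CommRingCat.of k))] [IsIntegral X]
  (hdim : topologicalKrullDim X = ((2 : ℕ) : WithBot ℕ∞)) {x : X} (hx : IsClosed ({x} : Set X)) {b : X' ⟶ X}
  (hb : _root_.BlowUp.IsBlowUp b (Scheme.IdealSheafData.vanishingIdeal ⟨{x}, hx⟩))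

include k hdim hx in
theorem dim_stalk_pt : ringKrullDim (X.presheaf.stalk x) = 2 :=
  GrothLib.BlowPt28.dim_stalk_closed k (GrothLib.BlowPt28.components_of_irreducible hdim) hx

include k hdim hb in
/-- The blow-up of a point of a surface is integral, Noetherian and regular. -/
theorem blow_setup : IsIntegral X' ∧ IsNoetherian X' ∧ IsProper b ∧
    ∀ y : X', IsRegularLocalRing (X'.presheaf.stalk y) := by
  haveI := Euler.isNoetherian_of_proper (X := X) k
  haveI : IsProper b := GrothLib.BlowUpProper.isProper_of_isBlowUp hb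
  have hJ : (Scheme.IdealSheafData.vanishingIdeal ⟨{x}, hx⟩ : X.IdealSheafData) ≠ ⊥ := by
    intro h
    have h1 : genericPoint X = x := (mem_vanishing_iff hx _).1 (by rw [h, Scheme.IdealSheafData.support_bot]; trivial)
    have h2 := dim_stalk_pt k hdim hx
    rw [← h1, show ringKrullDim (X.presheaf.stalk (genericPoint X)) = 0 from
      ringKrullDim_eq_zero_of_field X.functionField] at h2
    norm_num at h2
  obtain ⟨hint, -⟩ := Groth.Agent.S2348.result _ hJ b hb
  haveI := Euler.isNoetherian_of_proper (X := X) k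
  have hcpt : CompactSpace X' := QuasiCompact.compactSpace_of_compactSpace b
  haveI : IsLocallyNoetherian X' := LocallyOfFiniteType.isLocallyNoetherian b
  refine ⟨hint, { toCompactSpace := hcpt }, inferInstance, fun p => ?_⟩
  haveI := HodgeIndex.regular_of_smooth k (X := X) (b p)
  by_cases hp : b p = x
  · haveI : Flat (X.fromSpecStalk x) := GrothLib.FFDesc.flat_fromSpecStalk' X x
    haveI := HodgeIndex.regular_of_smooth k (X := X) x
    let q := pullback.fst (X.fromSpecStalk x) b
    have hq : _root_.BlowUp.IsBlowUp q (GrothLib.BlowUp.idealSheaf (maximalIdeal (X.presheaf.stalk x))) := by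
      have h := GrothLib.BlowUp.isBlowUp_flat_baseChange (X.fromSpecStalk x) hb
      rw [GrothLib.BlowUp.eq_idealSheaf (Scheme.IdealSheafData.comap _ (X.fromSpecStalk x))] at h
      rw [← GrothLib.ExcP1.stalkIdeal_vanishingIdeal hx]
      exact h
    have hne : maximalIdeal (X.presheaf.stalk x) ≠ ⊥ := fun h => by
      have h2 := dim_stalk_pt k hdim hx
      rw [ringKrullDim_eq_zero_of_isField (IsLocalRing.isField_iff_maximalIdeal_eq.2 h)] at h2
      norm_num at h2
    obtain ⟨-, hreg⟩ := BlowUpRegular.main (X.presheaf.stalk x) hne _ q hq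
    haveI : IsPreimmersion (pullback.snd (X.fromSpecStalk x) b) := inferInstance
    haveI : Flat (pullback.snd (X.fromSpecStalk x) b) := MorphismProperty.pullback_snd _ _ inferInstance
    obtain ⟨w, -, hw⟩ := Scheme.Pullback.exists_preimage_pullback (f := X.fromSpecStalk x) (g := b)
      (closedPoint (X.presheaf.stalk x)) p (by rw [Scheme.fromSpecStalk_closedPoint]; exact hp.symm)
    subst hw
    haveI := GrothLib.ArSurf29.isIso_stalkMap_of_flat_preimmersion (pullback.snd (X.fromSpecStalk x) b) w
    haveI := hreg w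
    exact IsRegularLocalRing.of_ringEquiv (R := (pullback (X.fromSpecStalk x) b).presheaf.stalk w)
      (asIso ((pullback.snd (X.fromSpecStalk x) b).stalkMap w)).symm.commRingCatIsoToRingEquiv
  · haveI := GrothLib.ExcP1.isIso_stalkMap_off hx hb hp
    exact IsRegularLocalRing.of_ringEquiv (R := X.presheaf.stalk (b p))
      (asIso (b.stalkMap p)).commRingCatIsoToRingEquiv

variable {C : X.IdealSheafData} (hCi : IsIntegral C.subscheme) (hCd : topologicalKrullDim (C.support : Set X) = 1)

include k hdim hCi hCd in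
theorem dim_stalk_gpt : haveI := hCi; ringKrullDim (X.presheaf.stalk (gpt C)) = 1 := by
  haveI := hCi
  have htop := HodgeIndex.isTop_of_curve k hCd
  exact HodgeIndex.ringKrullDim_stalk_eq_one hdim.le htop (HodgeIndex.isTop_ne_genericPoint hdim htop)

include k hdim hx hCi hCd in
theorem gpt_ne_point : haveI := hCi; gpt C ≠ x := by
  haveI := hCi
  intro h
  have h1 := dim_stalk_gpt k hdim hCi hCd
  have h2 := dim_stalk_pt k hdim hx
  rw [← h, h1] at h2
  norm_num at h2

variable {C' : X'.IdealSheafData} (hC'i : IsIntegral C'.subscheme)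
  (hgen : haveI := hCi; haveI := hC'i; b (gpt C') = gpt C)

include k hdim hx hb hCi hCd hgen in
/-- The strict transform of a curve is an effective Cartier divisor. -/
theorem isEffCartier_strict : _root_.BlowUp.IsEffCartierIdeal C' := by
  haveI := hCi
  haveI := hC'i
  obtain ⟨hint, hnoeth, -, hreg⟩ := blow_setup k hdim hx hb
  have h1 := dim_stalk_gpt k hdim hCi hCd
  have hne : b (gpt C') ≠ x := by rw [hgen]; exact gpt_ne_point k hdim hx hCi hCd
  haveI := GrothLib.ExcP1.isIso_stalkMap_off hx hb hne
  have h1' : ringKrullDim (X'.presheaf.stalk (gpt C')) = 1 := by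
    rw [← ringKrullDim_eq_of_ringEquiv (asIso (b.stalkMap (gpt C'))).commRingCatIsoToRingEquiv, hgen]
    exact h1
  intro z
  haveI := hreg z
  haveI : UniqueFactorizationMonoid (X'.presheaf.stalk z) := RegUFD.ufd_of_isRegularLocalRing _
  obtain ⟨U, hzU, hU⟩ := GrothLib.BlowUp.exists_cartierOn_of_ufd C' (fun w hw => by
    rw [WeakAss.isWeakAssPoint_structure_iff] at hw
    obtain rfl : genericPoint C'.subscheme = w := hw _ (genericPoint_specializes w)
    exact h1') z
  exact ⟨U, hzU, hU⟩

include k hdim hx hb hCi hCd hgen in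
/-- The class of a strict transform: `π^*C = C' + mE`. -/
theorem strict_cls (m : ℕ) (hm : C ≤ Scheme.IdealSheafData.vanishingIdeal ⟨{x}, hx⟩ ^ m)
    (hm' : ¬ C ≤ Scheme.IdealSheafData.vanishingIdeal ⟨{x}, hx⟩ ^ (m + 1)) :
    ∃ (hI : PicF.IsInvertible (ClSub.idealMod C)) (hI' : PicF.IsInvertible (ClSub.idealMod C')),
      pull b (clsMod hI) = clsMod hI' * clsMod (IdealModSec.isInvertible_of_isEffCartier hb.1) ^ m := by
  haveI := hCi
  haveI := hC'i
  obtain ⟨hint, hnoeth, -, hreg⟩ := blow_setup k hdim hx hb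
  haveI := Euler.isNoetherian_of_proper (X := X) k
  haveI := HodgeIndex.regular_of_smooth k (X := X) x
  have hC := HodgeIndex.isEffCartier_curve hdim (HodgeIndex.regular_of_smooth k) C (HodgeIndex.isTop_of_curve k hCd)
  have hC' := isEffCartier_strict k hdim hx hb hCi hCd hC'i hgen
  have heq := comap_eq_strict hx hb (dim_stalk_pt k hdim hx) C hC C' hC' hgen (gpt_ne_point k hdim hx hCi hCd) m hm hm'
  obtain ⟨hIm, hme⟩ := GrothLib.ArSurf29.cls_idealMod_pow hb.1 m
  refine ⟨IdealModSec.isInvertible_of_isEffCartier hC, IdealModSec.isInvertible_of_isEffCartier hC', ?_⟩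
  have hJ : PicF.IsInvertible (ClSub.idealMod (C.comap b)) := by
    rw [heq]
    exact IdealModSec.isInvertible_of_isEffCartier
      (GrothLib.BlowUp.isEffCartierIdeal_mul hC' (Nagata6.isEffCartierIdeal_pow hb.1 m))
  rw [GrothLib.Contract29.pull_cls_comap b C _ hJ, ← hme]
  revert hJ
  rw [heq]
  intro hJ
  exact GrothLib.HodgeIndex.cls_idealMod_mul hJ _ hIm

/-- `χ(O_C) = χ(O_X) − χ(I_C)` and `χ(O_C) = 1 − g` for an integral curve. -/
theorem chi_sub_ideal {Y C : Scheme.{u}} [Y.Over (Spec (CommRingCat.of k))] [IsProper (Y ↘ Spec (CommRingCat.of k))]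
    [C.Over (Spec (CommRingCat.of k))] [IsIntegral C] (hdC : topologicalKrullDim C ≤ 1) (i : C ⟶ Y) [IsClosedImmersion i]
    (hi : i ≫ Y ↘ Spec (CommRingCat.of k) = C ↘ Spec (CommRingCat.of k))
    (hI : PicF.IsInvertible (ClSub.idealMod i.ker)) :
    chi k (1 : Pic Y) - chi k (clsMod hI) = 1 - (Curv2.genus k C : ℤ) := by
  haveI := Euler.isNoetherian_of_proper (X := Y) k
  haveI : IsProper (C ↘ Spec (CommRingCat.of k)) := by rw [← hi]; infer_instance
  haveI := Euler.epi_toSubscheme i.ker
  let S := ShortComplex.mk (ClSub.idealModι i.ker) (ClSub.toSubscheme i.ker) (kernel.condition _)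
  haveI : Mono S.f := inferInstanceAs (Mono (kernel.ι (ClSub.toSubscheme i.ker)))
  haveI : Epi S.g := Euler.epi_toSubscheme i.ker
  have hS : S.ShortExact := { exact := ShortComplex.exact_of_f_is_kernel _ (kernelIsKernel _) }
  have hadd := Euler.euler_additive k hS (Euler.isCoh_of_isInvertible hI) (Kleiman.isCoh_O k)
    (QCoh.pushUnit_isCoh i.ker.subschemeι)
  have hC : Curv2.euler k C (Coh.structureModule C) = Curv2.euler k Y (ClSub.quotMod i.ker) := by
    rw [← Euler.euler_of_iso k (Ample.nonempty_pullback_structureModule i).some,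
      Kleiman.euler_pullback_eq_quotMod k i hi Euler.isInvertible_structure]
    exact Kleiman.euler_tensor_structure k _
  have hadd' : Curv2.euler k Y (Coh.structureModule Y) = Curv2.euler k Y (ClSub.idealMod i.ker) +
      Curv2.euler k Y (ClSub.quotMod i.ker) := hadd
  rw [Euler.euler_structure k hdC, ConnH0.finrank_H0_eq_one k] at hC
  rw [HodgeIndex.chi_one k, ← HodgeIndex.euler_eq_chi k hI]
  push_cast at hC
  linarith

end GrothLib.PlaneBlow28

namespace GrothLib.PlaneBlow28

/-- The ideal of an integral curve embedded by a closed immersion. -/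
theorem ker_curve {Y C : Scheme.{u}} [IsIntegral C] (j : C ⟶ Y) [IsClosedImmersion j] :
    ∃ h : IsIntegral j.ker.subscheme, (haveI := h; GrothLib.DivPart.gpt j.ker = j (genericPoint C)) ∧
      (topologicalKrullDim C = 1 → topologicalKrullDim (j.ker.support : Set Y) = 1) := by
  have hint : IsIntegral j.ker.subscheme :=
    haveI : Nonempty j.ker.subscheme := ⟨j.toImage (genericPoint C)⟩
    isIntegral_of_isOpenImmersion (inv j.toImage)
  have hs : (j.ker.support : Set Y) = Set.range j := by
    rw [Scheme.Hom.support_ker]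
    exact j.isClosedEmbedding.isClosed_range.closure_eq
  refine ⟨hint, IsGenericPoint.eq (S := (j.ker.support : Set Y)) ?_ ?_, fun hd => ?_⟩
  · show closure _ = _
    rw [GrothLib.DivPart.gpt, QCoh.closure_singleton_eq_range, j.ker.range_subschemeι]
  · show closure _ = _
    rw [QCoh.closure_singleton_eq_range, hs]
  · rw [hs, ← IsHomeomorph.topologicalKrullDim_eq _ j.isClosedEmbedding.isEmbedding.toHomeomorph.isHomeomorph, hd]

end GrothLib.PlaneBlow28
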